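import Cfsg.Agent.Lib.Basics.Cores

/-!
Coprime actions by automorphisms, and the representation on an invariant abelian normal subgroup.
-/

set_option autoImplicit false

namespace Cfsg.Agent.Fpf

universe u v

variable {G : Type u} [Group G] {A : Type v} [Group A] (φ : A →* MulAut G)

/-- invariant subgroup -/
def Inv (H : Subgroup G) : Prop := ∀ a : A, ∀ g ∈ H, φ a g ∈ H

/-- fixed-point-free action -/
def Free : Prop := ∀ g : G, (∀ a : A, φ a g = g) → g = 1

lemma inv_char (H : Subgroup G) [hH : H.Characteristic] : Inv φ H := fun a g hg =>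
  (Subgroup.characteristic_iff_map_eq.mp hH (φ a)).le (Subgroup.mem_map_of_mem _ hg)

variable {φ}

lemma Inv.map_eq {H : Subgroup G} (h : Inv φ H) (a : A) : H.map (φ a).toMonoidHom = H := by
  refine le_antisymm ?_ fun g hg => ⟨φ a⁻¹ g, h a⁻¹ g hg, ?_⟩
  · rintro _ ⟨g, hg, rfl⟩
    exact h a g hg
  · show φ a (φ a⁻¹ g) = g
    rw [← MulAut.mul_apply, ← map_mul, mul_inv_cancel, map_one, MulAut.one_apply]

lemma Inv.inf {H K : Subgroup G} (h : Inv φ H) (k : Inv φ K) : Inv φ (H ⊓ K) :=
  fun a g hg => ⟨h a g hg.1, k a g hg.2⟩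

lemma Inv.centralizer {H : Subgroup G} (h : Inv φ H) :
    Inv φ (Subgroup.centralizer (H : Set G)) := by
  intro a g hg
  rw [Subgroup.mem_centralizer_iff] at hg ⊢
  intro x hx
  obtain ⟨y, hy, rfl⟩ := (h.map_eq a).symm.le hx
  show φ a y * φ a g = φ a g * φ a y
  rw [← map_mul, ← map_mul, hg y hy]

lemma Inv.commutator {H K : Subgroup G} (h : Inv φ H) (k : Inv φ K) : Inv φ ⁅H, K⁆ := by
  intro a g hg
  have := Subgroup.map_commutator H K (φ a).toMonoidHom
  rw [h.map_eq, k.map_eq] at this
  exact this.le (Subgroup.mem_map_of_mem _ hg)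

/-- restriction of the action to an invariant subgroup -/
def restrict (H : Subgroup G) (h : Inv φ H) : A →* MulAut H where
  toFun a :=
    { toFun := fun x => ⟨φ a x, h a x x.2⟩
      invFun := fun x => ⟨φ a⁻¹ x, h a⁻¹ x x.2⟩
      left_inv := fun x => Subtype.ext (by
        show φ a⁻¹ (φ a x) = x
        rw [← MulAut.mul_apply, ← map_mul, inv_mul_cancel, map_one, MulAut.one_apply])
      right_inv := fun x => Subtype.ext (by
        show φ a (φ a⁻¹ x) = x
        rw [← MulAut.mul_apply, ← map_mul, mul_inv_cancel, map_one, MulAut.one_apply])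
      map_mul' := fun x y => Subtype.ext (map_mul (φ a) (x : G) y) }
  map_one' := MulEquiv.ext fun x => Subtype.ext (by
    show φ 1 (x : G) = x
    rw [map_one, MulAut.one_apply])
  map_mul' a b := MulEquiv.ext fun x => Subtype.ext (by
    show φ (a * b) (x : G) = φ a (φ b x)
    rw [map_mul, MulAut.mul_apply])

@[simp] lemma restrict_coe (H : Subgroup G) (h : Inv φ H) (a : A) (x : H) :
    ((restrict H h a x : H) : G) = φ a x := rfl

lemma Free.restrict (hf : Free φ) {H : Subgroup G} (h : Inv φ H) : Free (Fpf.restrict H h) :=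
  fun x hx => Subtype.ext (hf x fun a => congrArg Subtype.val (hx a))

/-- the action on an invariant quotient -/
def quot (N : Subgroup G) [N.Normal] (h : Inv φ N) : A →* MulAut (G ⧸ N) where
  toFun a := QuotientGroup.congr N N (φ a) (h.map_eq a)
  map_one' := MulEquiv.ext fun x => by
    induction x using QuotientGroup.induction_on with
    | _ g => show ((φ 1 g : G) : G ⧸ N) = g; rw [map_one, MulAut.one_apply]
  map_mul' a b := MulEquiv.ext fun x => by
    induction x using QuotientGroup.induction_on with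
    | _ g => show ((φ (a * b) g : G) : G ⧸ N) = ((φ a (φ b g) : G) : G ⧸ N)
             rw [map_mul, MulAut.mul_apply]

lemma quot_mk (N : Subgroup G) [N.Normal] (h : Inv φ N) (a : A) (g : G) :
    quot N h a (g : G ⧸ N) = ((φ a g : G) : G ⧸ N) := rfl

lemma inv_comap {N : Subgroup G} [N.Normal] {h : Inv φ N} {H : Subgroup (G ⧸ N)}
    (hH : Inv (quot N h) H) : Inv φ (H.comap (QuotientGroup.mk' N)) :=
  fun a g hg => hH a (g : G ⧸ N) hg

/-- A fixed point in an invariant coset. -/
lemma exists_fixed_in_coset [Finite G] {p : ℕ} [Fact p.Prime] (hA : IsPGroup p A)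
    {H : Subgroup G} (h : Inv φ H) (hH : ¬ p ∣ Nat.card H) {g : G}
    (hg : ∀ a, g⁻¹ * φ a g ∈ H) : ∃ z, g⁻¹ * z ∈ H ∧ ∀ a, φ a z = z := by
  let act : MulAction A {z : G // g⁻¹ * z ∈ H} :=
    { smul := fun a z => ⟨φ a z, by
        have h1 : g⁻¹ * φ a z = (g⁻¹ * φ a g) * φ a (g⁻¹ * z) := by simp [mul_assoc]
        rw [h1]; exact H.mul_mem (hg a) (h a _ z.2)⟩
      one_smul := fun z => Subtype.ext (by show φ 1 (z : G) = z; rw [map_one, MulAut.one_apply])
      mul_smul := fun a b z => Subtype.ext (by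
        show φ (a * b) (z : G) = φ a (φ b z); rw [map_mul, MulAut.mul_apply]) }
  have hc : Nat.card {z : G // g⁻¹ * z ∈ H} = Nat.card H :=
    Nat.card_congr
      { toFun := fun z => ⟨g⁻¹ * z, z.2⟩
        invFun := fun x => ⟨g * (x : G), by rw [inv_mul_cancel_left]; exact x.2⟩
        left_inv := fun z => by simp
        right_inv := fun x => by simp }
  obtain ⟨⟨z, hz⟩, hfix⟩ :=
    hA.nonempty_fixed_point_of_prime_not_dvd_card {z : G // g⁻¹ * z ∈ H} (by rwa [hc])
  exact ⟨z, hz, fun a => congrArg Subtype.val (hfix a)⟩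

lemma Free.not_dvd_card [Finite G] {p : ℕ} [Fact p.Prime] (hA : IsPGroup p A) (hf : Free φ) :
    ¬ p ∣ Nat.card G := by
  let act : MulAction A G :=
    { smul := fun a g => φ a g
      one_smul := fun g => by show φ 1 g = g; rw [map_one, MulAut.one_apply]
      mul_smul := fun a b g => by show φ (a * b) g = φ a (φ b g); rw [map_mul, MulAut.mul_apply] }
  intro hd
  have h1 : (1 : G) ∈ MulAction.fixedPoints A G := fun a => map_one (φ a)
  obtain ⟨g, hg, hne⟩ := hA.exists_fixed_point_of_prime_dvd_card_of_fixed_point G hd h1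
  exact hne (hf g hg).symm

lemma Free.quot [Finite G] {p : ℕ} [Fact p.Prime] (hA : IsPGroup p A) (hf : Free φ)
    (N : Subgroup G) [N.Normal] (h : Inv φ N) : Free (Fpf.quot N h) := by
  intro x hx
  obtain ⟨g, rfl⟩ := QuotientGroup.mk_surjective x
  obtain ⟨z, hz, hfix⟩ := exists_fixed_in_coset hA h
    (fun hd => hf.not_dvd_card hA (hd.trans N.card_subgroup_dvd_card)) (g := g)
    (fun a => QuotientGroup.eq.mp ((hx a).symm.trans (quot_mk N h a g)))
  rw [hf z hfix, mul_one] at hz
  exact (QuotientGroup.eq_one_iff g).mpr (N.inv_mem_iff.mp hz)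

variable (φ)

/-- fixed points of one element -/
def fix (a : A) : Subgroup G := (φ a : MulAut G).toMonoidHom.eqLocus (MonoidHom.id G)

lemma mem_fix {a : A} {g : G} : g ∈ fix φ a ↔ φ a g = g := Iff.rfl

lemma fix_zpow {a : A} {g : G} (hg : φ a g = g) {b : A} (hb : b ∈ Subgroup.zpowers a) :
    φ b g = g := by
  let S : Subgroup A :=
    { carrier := {b | φ b g = g}
      one_mem' := by show φ 1 g = g; rw [map_one, MulAut.one_apply]
      mul_mem' := fun {x y} hx hy => by
        show φ (x * y) g = g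
        rw [map_mul, MulAut.mul_apply, hy, hx]
      inv_mem' := fun {x} hx => by
        show φ x⁻¹ g = g
        conv_lhs => rw [← (hx : φ x g = g)]
        rw [← MulAut.mul_apply, ← map_mul, inv_mul_cancel, map_one, MulAut.one_apply] }
  exact (Subgroup.zpowers_le (H := S)).mpr hg hb

lemma inv_fix (hA : ∀ a b : A, a * b = b * a) (a : A) : Inv φ (fix φ a) := by
  intro b g hg
  show φ a (φ b g) = φ b g
  rw [← MulAut.mul_apply, ← map_mul, hA, map_mul, MulAut.mul_apply, (mem_fix φ).mp hg]

/-- A minimal invariant normal subgroup of a solvable group. -/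
lemma exists_minimal [Finite G] [Nontrivial G] [Group.IsSolvable G] :
    ∃ (V : Subgroup G) (r : ℕ), V.Normal ∧ Inv φ V ∧ V ≠ ⊥ ∧ r.Prime ∧ IsMulCommutative V ∧
      (∀ x ∈ V, x ^ r = 1) ∧
      ∀ W : Subgroup G, W.Normal → Inv φ W → W ≤ V → W = ⊥ ∨ W = V := by
  obtain ⟨V, ⟨hn, hi, hne⟩, hmin⟩ := WellFounded.has_min (wellFounded_lt (α := Subgroup G))
    {V | V.Normal ∧ Inv φ V ∧ V ≠ ⊥} ⟨⊤, inferInstance, fun _ _ _ => Subgroup.mem_top _, top_ne_bot⟩
  have hmin' : ∀ W : Subgroup G, W.Normal → Inv φ W → W ≤ V → W = ⊥ ∨ W = V := by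
    intro W hWn hWi hWV
    by_contra hcon
    rw [not_or] at hcon
    exact hmin W ⟨hWn, hWi, hcon.1⟩ (lt_of_le_of_ne hWV hcon.2)
  haveI := hn
  haveI : Nontrivial V := V.nontrivial_iff_ne_bot.mpr hne
  have hab : IsMulCommutative V := by
    have h1 : ⁅V, V⁆ ≠ V := by
      intro h
      have h2 := Group.IsSolvable.commutator_lt_top_of_nontrivial V
      apply h2.ne
      apply Subgroup.map_injective V.subtype_injective
      rw [_root_.commutator_def, Subgroup.map_commutator, ← MonoidHom.range_eq_map,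
        Subgroup.range_subtype]
      exact h
    have h0 := (hmin' _ inferInstance (hi.commutator hi) (Subgroup.commutator_le_self V)).resolve_right h1
    exact ⟨⟨fun a b => Subtype.ext ((Subgroup.mem_centralizer_iff.mp
      ((Subgroup.commutator_eq_bot_iff_le_centralizer.mp h0) b.2)) a a.2)⟩⟩
  haveI := hab
  obtain ⟨r, hr, hrd⟩ := Nat.exists_prime_and_dvd (Finite.one_lt_card (α := V)).ne'
  haveI := Fact.mk hr
  obtain ⟨x, hx⟩ := exists_prime_orderOf_dvd_card' (G := V) r hrd
  refine ⟨V, r, hn, hi, hne, hr, hab, ?_, hmin'⟩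
  let T : Subgroup G :=
    { carrier := {g | g ∈ V ∧ g ^ r = 1}
      one_mem' := ⟨V.one_mem, one_pow r⟩
      mul_mem' := fun {a b} ha hb => ⟨V.mul_mem ha.1 hb.1, by
        have h := congrArg Subtype.val (mul_comm' (⟨a, ha.1⟩ : V) ⟨b, hb.1⟩)
        rw [(show Commute a b from h).mul_pow, ha.2, hb.2, one_mul]⟩
      inv_mem' := fun {a} ha => ⟨V.inv_mem ha.1, by rw [inv_pow, ha.2, inv_one]⟩ }
  have hTn : T.Normal := ⟨fun a ha g => ⟨hn.conj_mem a ha.1 g, by rw [conj_pow, ha.2]; group⟩⟩
  have hTi : Inv φ T := fun a g hg => ⟨hi a g hg.1, by rw [← map_pow, hg.2, map_one]⟩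
  rcases hmin' T hTn hTi (fun g hg => hg.1) with h | h
  · have : (x : G) ∈ T := ⟨x.2, by rw [← hx, ← Subgroup.orderOf_coe, pow_orderOf_eq_one]⟩
    rw [h, Subgroup.mem_bot] at this
    have h1 : orderOf x = 1 := by rw [← Subgroup.orderOf_coe, this, orderOf_one]
    exact absurd (hx ▸ h1) hr.ne_one
  · exact fun g hg => (h.symm.le hg).2

/-- conjugation on an abelian normal subgroup, as an additive representation -/
noncomputable def conjRep (V : Subgroup G) [V.Normal] [IsMulCommutative V] :
    G →* AddMonoid.End (Additive V) where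
  toFun g := MonoidHom.toAdditive (MulAut.conjNormal g : MulAut V).toMonoidHom
  map_one' := AddMonoidHom.ext fun v => congrArg Additive.ofMul
    (DFunLike.congr_fun (map_one (MulAut.conjNormal : G →* MulAut V)) (Additive.toMul v))
  map_mul' g h := AddMonoidHom.ext fun v => congrArg Additive.ofMul
    (DFunLike.congr_fun (map_mul (MulAut.conjNormal : G →* MulAut V) g h) (Additive.toMul v))

/-- the action of `A` on an invariant abelian subgroup, as an additive representation -/
noncomputable def actRep (V : Subgroup G) (h : Inv φ V) [IsMulCommutative V] :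
    A →* AddMonoid.End (Additive V) where
  toFun a := MonoidHom.toAdditive (restrict V h a).toMonoidHom
  map_one' := AddMonoidHom.ext fun v => congrArg Additive.ofMul
    (DFunLike.congr_fun (map_one (restrict V h)) (Additive.toMul v))
  map_mul' a b := AddMonoidHom.ext fun v => congrArg Additive.ofMul
    (DFunLike.congr_fun (map_mul (restrict V h) a b) (Additive.toMul v))

lemma conjRep_apply (V : Subgroup G) [V.Normal] [IsMulCommutative V] (g : G) (v : Additive V) :
    ((Additive.toMul (conjRep V g v) : V) : G) = g * ((Additive.toMul v : V) : G) * g⁻¹ :=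
  MulAut.conjNormal_apply g (Additive.toMul v)

lemma actRep_apply (V : Subgroup G) (h : Inv φ V) [IsMulCommutative V] (a : A) (v : Additive V) :
    ((Additive.toMul (actRep φ V h a v) : V) : G) = φ a ((Additive.toMul v : V) : G) := rfl

end Cfsg.Agent.Fpf
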