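import Mathlib

/-!
Group-ring identities for a group `A` acting compatibly on a group `Q` and a `Q`-module `W`.
-/

set_option autoImplicit false

namespace Cfsg.Agent.Fpf

universe u v w

variable {Q : Type u} [Group Q] {A : Type v} [Group A] {W : Type w} [AddCommGroup W]

/-- compatibility of the three actions -/
def Compat (α : A →* MulAut Q) (ρ : Q →* AddMonoid.End W) (S : A →* AddMonoid.End W) : Prop :=
  ∀ (a : A) (y : Q) (x : W), S a (ρ y x) = ρ (α a y) (S a x)

variable {α : A →* MulAut Q} {ρ : Q →* AddMonoid.End W} {S : A →* AddMonoid.End W}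

lemma mul_apply' {M : Type u} [Monoid M] (f : M →* AddMonoid.End W) (y z : M) (x : W) :
    f (y * z) x = f y (f z x) := by rw [map_mul]; rfl

lemma one_apply' {M : Type u} [Monoid M] (f : M →* AddMonoid.End W) (x : W) : f 1 x = x := by
  rw [map_one]; rfl

/-- the sum over a subgroup, applied to a vector -/
noncomputable def eSum (ρ : Q →* AddMonoid.End W) (Z : Subgroup Q) [Finite Z] (x : W) : W :=
  letI := Fintype.ofFinite Z
  ∑ z : Z, ρ (z : Q) x

/-- the sum over the powers of `a`, applied to a vector -/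
noncomputable def aSum (S : A →* AddMonoid.End W) (a : A) (n : ℕ) (x : W) : W :=
  ∑ i ∈ Finset.range n, S (a ^ i) x

lemma eSum_zero (Z : Subgroup Q) [Finite Z] : eSum ρ Z 0 = 0 := by simp [eSum]

lemma eSum_add (Z : Subgroup Q) [Finite Z] (x y : W) :
    eSum ρ Z (x + y) = eSum ρ Z x + eSum ρ Z y := by
  simp [eSum, Finset.sum_add_distrib]

lemma eSum_sub (Z : Subgroup Q) [Finite Z] (x y : W) :
    eSum ρ Z (x - y) = eSum ρ Z x - eSum ρ Z y := by
  rw [eq_sub_iff_add_eq, ← eSum_add, sub_add_cancel]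

lemma eSum_nsmul (Z : Subgroup Q) [Finite Z] (n : ℕ) (x : W) :
    eSum ρ Z (n • x) = n • eSum ρ Z x := by
  simp [eSum, Finset.smul_sum]

lemma rho_eSum (Z : Subgroup Q) [Finite Z] {y : Q} (hy : y ∈ Z) (x : W) :
    ρ y (eSum ρ Z x) = eSum ρ Z x := by
  let := Fintype.ofFinite Z
  simp only [eSum, map_sum]
  refine Fintype.sum_equiv (Equiv.mulLeft (⟨y, hy⟩ : Z)) _ _ fun z => ?_
  exact (mul_apply' ρ y z x).symm

lemma eSum_eSum (Z : Subgroup Q) [Finite Z] (x : W) :
    eSum ρ Z (eSum ρ Z x) = Nat.card Z • eSum ρ Z x := by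
  let := Fintype.ofFinite Z
  conv_lhs => rw [eSum]
  rw [Finset.sum_congr rfl (fun z _ => rho_eSum Z z.2 x), Finset.sum_const, Finset.card_univ,
    Nat.card_eq_fintype_card]

lemma rho_eSum_comm (Z : Subgroup Q) [Z.Normal] [Finite Z] (y : Q) (x : W) :
    ρ y (eSum ρ Z x) = eSum ρ Z (ρ y x) := by
  let := Fintype.ofFinite Z
  simp only [eSum, map_sum]
  refine Fintype.sum_equiv ((MulAut.conjNormal y : MulAut Z).toEquiv) _ _ fun z => ?_
  show ρ y (ρ (z : Q) x) = ρ ((MulAut.conjNormal y z : Z) : Q) (ρ y x)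
  rw [MulAut.conjNormal_apply, ← mul_apply', ← mul_apply', inv_mul_cancel_right]

lemma S_eSum_comm (hc : Compat α ρ S) (Z : Subgroup Q) [Finite Z] {a : A}
    (hZ : ∀ z ∈ Z, α a z ∈ Z) (x : W) : S a (eSum ρ Z x) = eSum ρ Z (S a x) := by
  let := Fintype.ofFinite Z
  simp only [eSum, map_sum]
  refine Fintype.sum_bijective (fun z : Z => (⟨α a z, hZ z z.2⟩ : Z))
    (Finite.injective_iff_bijective.mp fun z z' h =>
      Subtype.ext ((α a).injective (congrArg Subtype.val h))) _ _ fun z => ?_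
  exact hc a z x

lemma S_aSum {a : A} {n : ℕ} (ha : a ^ n = 1) (x : W) : S a (aSum S a n x) = aSum S a n x := by
  simp only [aSum, map_sum, ← mul_apply', ← pow_succ']
  rcases n with _ | m
  · simp
  · rw [Finset.sum_range_succ, Finset.sum_range_succ' (fun i => S (a ^ i) x)]
    rw [ha, pow_zero]

lemma smul_cancel [Finite W] {n : ℕ} (hn : n.Coprime (Nat.card W)) {x y : W} (h : n • x = n • y) :
    x = y := by
  rw [← sub_eq_zero] at h ⊢
  rw [← smul_sub] at h
  rw [← AddMonoid.addOrderOf_eq_one_iff]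
  exact Nat.eq_one_of_dvd_coprimes hn (addOrderOf_dvd_iff_nsmul_eq_zero.mpr h)
    (addOrderOf_dvd_natCard _)

/-- the basic identity -/
lemma sum_conj_aSum (hc : Compat α ρ S) (Z : Subgroup Q) [Fintype Z] (a : A) (n : ℕ) (x : W) :
    ∑ z : Z, ρ (z : Q)⁻¹ (aSum S a n (ρ (z : Q) x)) =
      ∑ i ∈ Finset.range n, ∑ z : Z, ρ ((z : Q)⁻¹ * α (a ^ i) z) (S (a ^ i) x) := by
  simp only [aSum, map_sum]
  rw [Finset.sum_comm]
  refine Finset.sum_congr rfl fun i _ => Finset.sum_congr rfl fun z _ => ?_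
  rw [hc, mul_apply']

/-- a term with a fixed-point-free power is the sum over the subgroup -/
lemma sum_twist (Z : Subgroup Q) [Fintype Z] (b : A) (hb : ∀ z ∈ Z, α b z ∈ Z)
    (hfree : ∀ z ∈ Z, α b z = z → z = 1) (x : W) :
    ∑ z : Z, ρ ((z : Q)⁻¹ * α b z) x = eSum ρ Z x := by
  have : eSum ρ Z x = ∑ z : Z, ρ (z : Q) x := by
    simp only [eSum]; congr 1; convert rfl
  rw [this]
  refine Fintype.sum_bijective
    (fun z : Z => (⟨(z : Q)⁻¹ * α b z, Z.mul_mem (Z.inv_mem z.2) (hb z z.2)⟩ : Z))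
    (Finite.injective_iff_bijective.mp fun z z' h => ?_) _ _ fun z => rfl
  have h' : (z : Q)⁻¹ * α b z = (z' : Q)⁻¹ * α b z' := congrArg Subtype.val h
  have h1 : α b ((z' : Q) * (z : Q)⁻¹) = (z' : Q) * (z : Q)⁻¹ := by
    rw [map_mul, map_inv, mul_inv_eq_iff_eq_mul, mul_assoc, h', mul_inv_cancel_left]
  exact Subtype.ext (mul_inv_eq_one.mp (hfree _ (Z.mul_mem z'.2 (Z.inv_mem z.2)) h1)).symm

/-- vectors killed by the subgroup sum are recovered from the `a`-sums -/
lemma card_smul_eq (hc : Compat α ρ S) (Z : Subgroup Q) [Fintype Z] (a : A) (n : ℕ) (hn : 0 < n)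
    (hZ : ∀ i < n, ∀ z ∈ Z, α (a ^ i) z ∈ Z)
    (hfree : ∀ i < n, i ≠ 0 → ∀ z ∈ Z, α (a ^ i) z = z → z = 1)
    {x : W} (hx : eSum ρ Z x = 0) :
    Nat.card Z • x = ∑ z : Z, ρ (z : Q)⁻¹ (aSum S a n (ρ (z : Q) x)) := by
  rw [sum_conj_aSum hc, Finset.sum_eq_single 0]
  · simp [Nat.card_eq_fintype_card]
  · intro i hi hi0
    have hin := Finset.mem_range.mp hi
    rw [sum_twist Z _ (hZ i hin) (hfree i hin hi0), ← S_eSum_comm hc Z (hZ i hin), hx, map_zero]
  · intro h
    exact absurd (Finset.mem_range.mpr hn) h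

/-- `Z` fixes a vector whose `Z`-orbit has vanishing `a`-sums -/
lemma fixed_of_aSum_eq_zero [Finite W] (hc : Compat α ρ S) (Z : Subgroup Q) [Finite Z] (a : A)
    (n : ℕ) (hn : 0 < n) (hZ : ∀ i < n, ∀ z ∈ Z, α (a ^ i) z ∈ Z)
    (hfree : ∀ i < n, i ≠ 0 → ∀ z ∈ Z, α (a ^ i) z = z → z = 1)
    (hcop : (Nat.card Z).Coprime (Nat.card W)) {x : W}
    (hx : ∀ z ∈ Z, aSum S a n (ρ z x) = 0) : ∀ z ∈ Z, ρ z x = x := by
  let := Fintype.ofFinite Z
  set u := Nat.card Z • x - eSum ρ Z x with hu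
  have hue : eSum ρ Z u = 0 := by rw [hu, eSum_sub, eSum_nsmul, eSum_eSum, sub_self]
  have h1 : Nat.card Z • u = Nat.card Z • 0 := by
    rw [card_smul_eq hc Z a n hn hZ hfree hue, smul_zero]
    refine Finset.sum_eq_zero fun z _ => ?_
    have h2 : aSum S a n (ρ (z : Q) u) = 0 := by
      have h3 : ρ (z : Q) u = Nat.card Z • ρ (z : Q) x - eSum ρ Z x := by
        rw [hu, map_sub, map_nsmul, rho_eSum Z z.2]
      rw [h3]
      have h4 : aSum S a n (eSum ρ Z x) = 0 := by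
        simp only [aSum, eSum, map_sum]
        rw [Finset.sum_comm]
        exact Finset.sum_eq_zero fun y _ => hx y y.2
      simp only [aSum, map_sub, map_nsmul, Finset.sum_sub_distrib, ← Finset.smul_sum] at h4 ⊢
      have h5 := hx z z.2
      simp only [aSum] at h5
      rw [h4, h5, smul_zero, sub_zero]
    rw [h2, map_zero]
  have h6 : u = 0 := smul_cancel hcop h1
  intro y hy
  refine smul_cancel hcop ?_
  rw [← map_nsmul, sub_eq_zero.mp h6, rho_eSum Z hy]

/-- an element centralising `Z` and fixing all `a`-sums fixes vectors killed by the sum over `Z` -/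
lemma fixed_of_fix_aSum [Finite W] (hc : Compat α ρ S) (Z : Subgroup Q) [Finite Z] (a : A) (n : ℕ)
    (hn : 0 < n) (hZ : ∀ i < n, ∀ z ∈ Z, α (a ^ i) z ∈ Z)
    (hfree : ∀ i < n, i ≠ 0 → ∀ z ∈ Z, α (a ^ i) z = z → z = 1)
    (hcop : (Nat.card Z).Coprime (Nat.card W)) {y : Q} (hy : ∀ z ∈ Z, Commute y z)
    (hfix : ∀ x : W, ρ y (aSum S a n x) = aSum S a n x) {x : W} (hx : eSum ρ Z x = 0) :
    ρ y x = x := by
  let := Fintype.ofFinite Z
  refine smul_cancel hcop ?_
  rw [← map_nsmul, card_smul_eq hc Z a n hn hZ hfree hx, map_sum]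
  refine Finset.sum_congr rfl fun z _ => ?_
  rw [← mul_apply', ((hy z z.2).inv_right).eq, mul_apply', hfix]

/-- restriction of a representation to an invariant additive subgroup -/
noncomputable def subRep {M : Type u} [Monoid M] (f : M →* AddMonoid.End W) (X : AddSubgroup W)
    (h : ∀ m, ∀ x ∈ X, f m x ∈ X) : M →* AddMonoid.End X where
  toFun m := ((f m : W →+ W).comp X.subtype).codRestrict X fun x => h m x x.2
  map_one' := AddMonoidHom.ext fun x => Subtype.ext (one_apply' f (x : W))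
  map_mul' m m' := AddMonoidHom.ext fun x => Subtype.ext (mul_apply' f m m' (x : W))

@[simp] lemma subRep_apply {M : Type u} [Monoid M] (f : M →* AddMonoid.End W) (X : AddSubgroup W)
    (h : ∀ m, ∀ x ∈ X, f m x ∈ X) (m : M) (x : X) : ((subRep f X h m x : X) : W) = f m x := rfl

/-- vectors fixed by a subgroup -/
def fixedSub (ρ : Q →* AddMonoid.End W) (K : Subgroup Q) : AddSubgroup W where
  carrier := {x | ∀ k ∈ K, ρ k x = x}
  add_mem' hx hy k hk := by rw [map_add, hx k hk, hy k hk]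
  zero_mem' k _ := map_zero _
  neg_mem' hx k hk := by rw [map_neg, hx k hk]

lemma mem_fixedSub {K : Subgroup Q} {x : W} : x ∈ fixedSub ρ K ↔ ∀ k ∈ K, ρ k x = x := Iff.rfl

lemma rho_mem_fixedSub (K : Subgroup Q) [hK : K.Normal] (y : Q) (x : W) (hx : x ∈ fixedSub ρ K) :
    ρ y x ∈ fixedSub ρ K := fun k hk => by
  have h1 : y⁻¹ * k * y ∈ K := by simpa using hK.conj_mem k hk y⁻¹
  have h2 : k * y = y * (y⁻¹ * k * y) := by group
  rw [← mul_apply', h2, mul_apply', hx _ h1]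

lemma S_mem_fixedSub (hc : Compat α ρ S) (K : Subgroup Q) {a : A}
    (hK : ∀ k ∈ K, α a⁻¹ k ∈ K) (x : W) (hx : x ∈ fixedSub ρ K) : S a x ∈ fixedSub ρ K := fun k hk => by
  have h1 : α a (α a⁻¹ k) = k := by
    rw [← MulAut.mul_apply, ← map_mul, mul_inv_cancel, map_one, MulAut.one_apply]
  calc ρ k (S a x) = ρ (α a (α a⁻¹ k)) (S a x) := by rw [h1]
    _ = S a (ρ (α a⁻¹ k) x) := (hc a _ x).symm
    _ = S a x := by rw [hx _ (hK k hk)]

end Cfsg.Agent.Fpf
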