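import Cfsg.Agent.Lib.Fpf.Action
import Cfsg.Agent.Lib.Fpf.Sum

/-!
Tools for induction along minimal invariant normal subgroups; a solvable group with a
fixed-point-free automorphism of prime order is nilpotent; generation by fixed points.
-/

set_option autoImplicit false

namespace Cfsg.Agent.Fpf

open Cfsg
open scoped IsMulCommutative

universe u v

/-- in a group of exponent `p`, a non-zero power has the same fixed points -/
lemma fixed_of_pow {G : Type u} [Group G] {A : Type v} [Group A] (φ : A →* MulAut G) {p : ℕ}
    [Fact p.Prime] {a : A} (ha : a ^ p = 1) {i : ℕ} (hi : i < p) (hi0 : i ≠ 0) {g : G}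
    (h : φ (a ^ i) g = g) : φ a g = g := by
  refine fix_zpow φ h ?_
  have hcop : i.Coprime (orderOf a) := by
    refine Nat.Coprime.coprime_dvd_right (orderOf_dvd_of_pow_eq_one ha) ?_
    exact ((Fact.out : p.Prime).coprime_iff_not_dvd.mpr fun hd =>
      absurd (Nat.le_of_dvd (Nat.pos_of_ne_zero hi0) hd) (not_le.mpr hi)).symm
  obtain ⟨e, he⟩ := exists_pow_eq_self_of_coprime hcop
  have h1 : (a ^ i) ^ e ∈ Subgroup.zpowers (a ^ i) := Subgroup.npow_mem_zpowers (a ^ i) e
  rwa [he] at h1

section Module

variable {G : Type u} [Group G] {A : Type v} [Group A] {φ : A →* MulAut G}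
variable (V : Subgroup G) [V.Normal] [IsMulCommutative V]

lemma conjRep_eq_one {g : G} :
    conjRep V g = 1 ↔ g ∈ Subgroup.centralizer (V : Set G) := by
  constructor
  · intro h
    rw [Subgroup.mem_centralizer_iff]
    intro x hx
    have h1 := conjRep_apply V g (Additive.ofMul ⟨x, hx⟩)
    rw [h] at h1
    exact (mul_inv_eq_iff_eq_mul.mp h1.symm).symm
  · intro h
    refine AddMonoidHom.ext fun v => Additive.toMul.injective (Subtype.ext ?_)
    refine (conjRep_apply V g v).trans ?_
    rw [← (Subgroup.mem_centralizer_iff.mp h) _ (Additive.toMul v : V).2, mul_inv_cancel_right]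
    rfl

/-- the representation of `G / C_G(V)` on `V` -/
noncomputable def quotRep :
    G ⧸ Subgroup.centralizer (V : Set G) →* AddMonoid.End (Additive V) :=
  QuotientGroup.lift _ (conjRep V) fun _ hg => MonoidHom.mem_ker.mpr ((conjRep_eq_one V).mpr hg)

lemma quotRep_eq_one {x : G ⧸ Subgroup.centralizer (V : Set G)} (h : quotRep V x = 1) : x = 1 := by
  obtain ⟨g, rfl⟩ := QuotientGroup.mk_surjective x
  exact (QuotientGroup.eq_one_iff g).mpr ((conjRep_eq_one V).mp h)

lemma compat_quotRep (h : Inv φ V) :
    Compat (Fpf.quot (Subgroup.centralizer (V : Set G)) h.centralizer) (quotRep V)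
      (actRep φ V h) := by
  intro a y x
  obtain ⟨g, rfl⟩ := QuotientGroup.mk_surjective y
  refine Additive.toMul.injective (Subtype.ext ?_)
  show _ = ((Additive.toMul (conjRep V (φ a g) (actRep φ V h a x)) : V) : G)
  rw [conjRep_apply, actRep_apply, actRep_apply]
  show φ a ((Additive.toMul (conjRep V g x) : V) : G) = _
  rw [conjRep_apply, map_mul, map_mul, map_inv]

lemma actRep_free (hf : Free φ) (h : Inv φ V) (x : Additive V) (hx : ∀ a, actRep φ V h a x = x) :
    x = 0 := by
  refine Additive.toMul.injective (Subtype.ext ?_)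
  exact hf _ fun a => by rw [← actRep_apply φ V h a x, hx a]

variable [Finite G]

lemma card_additive_eq_pow {r : ℕ} [Fact r.Prime] (hexp : ∀ x ∈ V, x ^ r = 1) :
    ∃ k, Nat.card (Additive V) = r ^ k := by
  have h : IsPGroup r V := fun x => ⟨1, by rw [pow_one]; exact Subtype.ext (hexp x x.2)⟩
  obtain ⟨k, hk⟩ := IsPGroup.iff_card.mp h
  exact ⟨k, hk⟩

lemma coprime_card_additive {r : ℕ} [Fact r.Prime] (hexp : ∀ x ∈ V, x ^ r = 1) {n : ℕ}
    (hn : ¬ r ∣ n) : n.Coprime (Nat.card (Additive V)) := by
  obtain ⟨k, hk⟩ := card_additive_eq_pow V hexp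
  rw [hk]
  exact ((Fact.out : r.Prime).coprime_iff_not_dvd.mpr hn).symm.pow_right k

lemma not_dvd_card_fitting (hne : V ≠ ⊥) (hi : Inv φ V)
    (hmin : ∀ W : Subgroup G, W.Normal → Inv φ W → W ≤ V → W = ⊥ ∨ W = V)
    {r : ℕ} [Fact r.Prime] (hexp : ∀ x ∈ V, x ^ r = 1) :
    ¬ r ∣ Nat.card (fittingSubgroup (G ⧸ Subgroup.centralizer (V : Set G))) := by
  set C := Subgroup.centralizer (V : Set G) with hC
  intro hd
  set F := fittingSubgroup (G ⧸ C)
  obtain ⟨R⟩ : Nonempty (Sylow r F) := Sylow.nonempty
  have hR : (R : Subgroup F).Normal := by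
    have hiff : Group.IsNilpotent F ↔
        ∀ (q : ℕ) (_ : Fact q.Prime) (P : Sylow q F), (P : Subgroup F).Normal :=
      (Group.isNilpotent_of_finite_tfae (G := F)).out 0 3
    exact hiff.mp inferInstance r inferInstance R
  haveI := Sylow.characteristic_of_normal R hR
  haveI hFn : F.Normal := inferInstance
  have hRn : ((R : Subgroup F).map F.subtype).Normal := inferInstance
  haveI := hRn
  have hle : (R : Subgroup F).map F.subtype ≤ pCore r (G ⧸ C) :=
    Basics.le_pCore (R.isPGroup'.map _)
  -- the core is trivial
  set X := (pCore r (G ⧸ C)).comap (QuotientGroup.mk' C) with hX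
  haveI : X.Normal := by rw [hX]; infer_instance
  have hXi : Inv φ X := inv_comap (h := hi.centralizer) (inv_char _ _)
  have hXC : X ≤ C := by
    let act : MulAction (pCore r (G ⧸ C)) (Additive V) :=
      { smul := fun y v => quotRep V (y : G ⧸ C) v
        one_smul := fun v => one_apply' (quotRep V) v
        mul_smul := fun y z v => mul_apply' (quotRep V) (y : G ⧸ C) (z : G ⧸ C) v }
    obtain ⟨k, hk⟩ := card_additive_eq_pow V hexp
    have hk0 : k ≠ 0 := by
      rintro rfl
      exact hne (Subgroup.card_eq_one.mp hk)
    obtain ⟨v, hv, hv0⟩ := (Basics.pCore_isPGroup (G := G ⧸ C) r).exists_fixed_point_of_prime_dvd_card_of_fixed_point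
      (Additive V) (hk ▸ dvd_pow_self r hk0) (a := 0) (fun y => by show quotRep V (y : G ⧸ C) 0 = 0; exact map_zero _)
    have hW : V ⊓ Subgroup.centralizer (X : Set G) ≠ ⊥ := by
      intro h0
      apply hv0
      have hmem : ((Additive.toMul v : V) : G) ∈ V ⊓ Subgroup.centralizer (X : Set G) := by
        refine ⟨(Additive.toMul v : V).2, Subgroup.mem_centralizer_iff.mpr fun g hg => ?_⟩
        have h1 : quotRep V (g : G ⧸ C) v = v := hv ⟨(g : G ⧸ C), hg⟩
        have h2 := conjRep_apply V g v
        rw [show conjRep V g v = v from h1] at h2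
        exact mul_inv_eq_iff_eq_mul.mp h2.symm
      rw [h0, Subgroup.mem_bot] at hmem
      exact (Additive.toMul.injective (Subtype.ext hmem) : v = 0).symm
    have hWV := (hmin _ inferInstance (hi.inf hXi.centralizer) inf_le_left).resolve_left hW
    intro g hg
    rw [hC, Subgroup.mem_centralizer_iff]
    intro x hx
    exact (Subgroup.mem_centralizer_iff.mp (hWV.symm.le hx).2 g hg).symm
  have hbot : (R : Subgroup F).map F.subtype = ⊥ := by
    rw [eq_bot_iff]
    intro y hy
    obtain ⟨g, rfl⟩ := QuotientGroup.mk_surjective y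
    exact Subgroup.mem_bot.mpr ((QuotientGroup.eq_one_iff g).mpr (hXC (hle hy)))
  rw [Subgroup.map_eq_bot_iff_of_injective _ F.subtype_injective] at hbot
  exact R.ne_bot_of_dvd_card hd hbot

lemma mem_fitting_of_quotient {g : G}
    (h1 : (g : G ⧸ V) ∈ fittingSubgroup (G ⧸ V)) (h2 : g ∈ Subgroup.centralizer (V : Set G)) :
    g ∈ fittingSubgroup G := by
  set N := (fittingSubgroup (G ⧸ V)).comap (QuotientGroup.mk' V) ⊓
    Subgroup.centralizer (V : Set G) with hN
  haveI : N.Normal := by rw [hN]; infer_instance
  refine Basics.le_fittingSubgroup (N := N) ?_ ⟨h1, h2⟩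
  let f : N →* fittingSubgroup (G ⧸ V) :=
    ((QuotientGroup.mk' V).comp N.subtype).codRestrict _ fun x => x.2.1
  refine (Subgroup.isNilpotent_of_ker_le_center f ?_)
  intro x hx
  have hxV : (x : G) ∈ V := (QuotientGroup.eq_one_iff _).mp (congrArg Subtype.val hx)
  rw [Subgroup.mem_center_iff]
  intro y
  exact Subtype.ext (Subgroup.mem_centralizer_iff.mp y.2.2 (x : G) hxV).symm

end Module

theorem isNilpotent_of_prime {G : Type u} [Group G] [Finite G] [Group.IsSolvable G] {A : Type v}
    [Group A] [Finite A] {p : ℕ} [Fact p.Prime] (hA : Nat.card A = p) (φ : A →* MulAut G)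
    (hf : Free φ) : Group.IsNilpotent G := by
  induction hc : Nat.card G using Nat.strong_induction_on generalizing G with
  | _ n ih =>
    subst hc
    rcases subsingleton_or_nontrivial G with hG | hG
    · infer_instance
    obtain ⟨V, r, hVn, hi, hne, hr, hab, hexp, hmin⟩ := exists_minimal φ
    haveI := Fact.mk hr
    have hAp : IsPGroup p A := IsPGroup.of_card (n := 1) (by rw [pow_one]; exact hA)
    haveI : IsCyclic A := isCyclic_of_prime_card hA
    obtain ⟨a, ha⟩ := IsCyclic.exists_generator (α := A)
    have hap : a ^ p = 1 := hA ▸ pow_card_eq_one'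
    have hQnil : Group.IsNilpotent (G ⧸ V) := by
      refine ih _ ?_ (quot V hi) (hf.quot hAp V hi) rfl
      rw [V.card_eq_card_quotient_mul_card_subgroup]
      exact lt_mul_of_one_lt_right Nat.card_pos ((Subgroup.one_lt_card_iff_ne_bot V).mpr hne)
    set C := Subgroup.centralizer (V : Set G) with hC
    set F := fittingSubgroup (G ⧸ C)
    have hF : F = ⊥ := by
      rw [eq_bot_iff]
      intro y hy
      refine Subgroup.mem_bot.mpr (quotRep_eq_one V (AddMonoidHom.ext fun x => ?_))
      refine fixed_of_aSum_eq_zero (compat_quotRep V hi) F a p (Fact.out : p.Prime).pos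
        (fun i _ => inv_char _ _ _) (fun i hi' hi0 z _ hz => ?_)
        (coprime_card_additive V hexp (not_dvd_card_fitting V hne hi hmin hexp))
        (fun z _ => ?_) y hy
      · exact hf.quot hAp C hi.centralizer z fun b =>
          fix_zpow (quot C hi.centralizer) (fixed_of_pow _ hap hi' hi0 hz) (ha b)
      · refine actRep_free V hf hi _ fun b => ?_
        refine Additive.toMul.injective (Subtype.ext ?_)
        rw [actRep_apply]
        refine fix_zpow φ ?_ (ha b)
        rw [← actRep_apply φ V hi a, S_aSum hap]
    have hC1 : C = ⊤ := by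
      by_contra hne'
      haveI : Nontrivial (G ⧸ C) := QuotientGroup.nontrivial_iff.mpr hne'
      exact Basics.fittingSubgroup_ne_bot hF
    refine Subgroup.isNilpotent_of_ker_le_center (QuotientGroup.mk' V) ?_
    rw [QuotientGroup.ker_mk']
    intro x hx
    rw [Subgroup.mem_center_iff]
    intro g
    exact (Subgroup.mem_centralizer_iff.mp (show g ∈ C from hC1 ▸ Subgroup.mem_top g) x hx).symm

/-- `A` of exponent `p`, order `p²` acting fixed-point-freely: fixed points generate. -/
theorem eq_top_of_fix_le {G : Type u} [Group G] [Finite G] [Group.IsSolvable G] {A : Type v}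
    [CommGroup A] [Finite A] {p : ℕ} [Fact p.Prime] (hA : Nat.card A = p ^ 2)
    (hexpA : ∀ a : A, a ^ p = 1) (φ : A →* MulAut G) (hf : Free φ) (H : Subgroup G)
    (hH : ∀ a : A, a ≠ 1 → fix φ a ≤ H) : H = ⊤ := by
  induction hc : Nat.card G using Nat.strong_induction_on generalizing G with
  | _ n ih =>
    subst hc
    rcases subsingleton_or_nontrivial G with hG | hG
    · exact Subsingleton.elim _ _
    obtain ⟨V, r, hVn, hi, hne, hr, hab, hexp, hmin⟩ := exists_minimal φ
    haveI := Fact.mk hr
    have hAp : IsPGroup p A := IsPGroup.of_card hA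
    have hnd := hf.not_dvd_card hAp
    -- generators of `A`
    haveI : Nontrivial A := Finite.one_lt_card_iff_nontrivial.mp
      (hA ▸ Nat.one_lt_pow two_ne_zero (Fact.out : p.Prime).one_lt)
    obtain ⟨a, ha⟩ := exists_ne (1 : A)
    have hoa : orderOf a = p := orderOf_eq_prime (hexpA a) ha
    obtain ⟨b, hb⟩ : ∃ b, b ∉ Subgroup.zpowers a := by
      by_contra hcon
      have h1 := Nat.card_le_card_of_surjective (fun x : Subgroup.zpowers a => (x : A))
        (fun x => ⟨⟨x, by_contra fun hx => hcon ⟨x, hx⟩⟩, rfl⟩)
      rw [Nat.card_zpowers, hoa, hA] at h1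
      nlinarith [(Fact.out : p.Prime).two_le]
    -- the image in `G / V`
    have hHV : H ⊔ V = ⊤ := by
      have h1 := ih _ (by
        rw [V.card_eq_card_quotient_mul_card_subgroup]
        exact lt_mul_of_one_lt_right Nat.card_pos ((Subgroup.one_lt_card_iff_ne_bot V).mpr hne))
        (quot V hi) (hf.quot hAp V hi) (H.map (QuotientGroup.mk' V)) (fun c hc1 x hx => by
          obtain ⟨g, rfl⟩ := QuotientGroup.mk_surjective x
          let ψ : Subgroup.zpowers c →* MulAut G := φ.comp (Subgroup.zpowers c).subtype
          obtain ⟨z, hz, hfix⟩ := exists_fixed_in_coset (φ := ψ) (hAp.to_subgroup _)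
            (fun x => hi x) (fun hd => hnd (hd.trans V.card_subgroup_dvd_card)) (g := g) (fun x => by
              have h2 : quot V hi (x : A) (g : G ⧸ V) = g := fix_zpow (quot V hi) hx x.2
              exact QuotientGroup.eq.mp (h2.symm.trans (quot_mk V hi x g)))
          exact ⟨z, hH c hc1 (hfix ⟨c, Subgroup.mem_zpowers c⟩), (QuotientGroup.eq.mpr hz).symm⟩)
        rfl
      have h2 := congrArg (Subgroup.comap (QuotientGroup.mk' V)) h1
      rwa [Subgroup.comap_map_eq, QuotientGroup.ker_mk', Subgroup.comap_top] at h2
    refine top_le_iff.mp (hHV ▸ sup_le le_rfl fun x hx => ?_)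
    -- `V` is generated by fixed points
    let HV : AddSubgroup (Additive V) := (H.subgroupOf V).toAddSubgroup
    have key : ∀ v : Additive V, p • v ∈ HV := by
      intro v
      have hin : ∀ c : A, c ≠ 1 → aSum (actRep φ V hi) c p v ∈ HV := by
        intro c hc1
        apply hH c hc1
        exact (actRep_apply φ V hi c _).symm.trans
          (congrArg (fun w => ((Additive.toMul w : V) : G)) (S_aSum (hexpA c) v))
      have hdouble : aSum (actRep φ V hi) a p (aSum (actRep φ V hi) b p v) = 0 := by
        refine actRep_free V hf hi _ fun c => ?_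
        let K : Subgroup A :=
          { carrier := {c | actRep φ V hi c (aSum (actRep φ V hi) a p (aSum (actRep φ V hi) b p v)) =
              aSum (actRep φ V hi) a p (aSum (actRep φ V hi) b p v)}
            one_mem' := one_apply' _ _
            mul_mem' := fun {x y} hx hy => by
              show actRep φ V hi (x * y) _ = _
              rw [mul_apply', hy, hx]
            inv_mem' := fun {x} hx => by
              show actRep φ V hi x⁻¹ _ = _
              conv_lhs => rw [← (hx : actRep φ V hi x _ = _)]
              rw [← mul_apply', inv_mul_cancel, one_apply'] }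
        have haK : a ∈ K := S_aSum (hexpA a) _
        have hbK : b ∈ K := by
          show actRep φ V hi b _ = _
          have hswap : ∀ w, actRep φ V hi b (aSum (actRep φ V hi) a p w) =
              aSum (actRep φ V hi) a p (actRep φ V hi b w) := by
            intro w
            simp only [aSum, map_sum, ← mul_apply', mul_comm b]
          rw [hswap, S_aSum (hexpA b)]
        have hK : K = ⊤ := by
          have hle : Subgroup.zpowers a < K := lt_of_le_of_ne (Subgroup.zpowers_le.mpr haK)
            fun he => hb (he.symm.le hbK)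
          refine Subgroup.eq_top_of_card_eq K ?_
          obtain ⟨j, hj, hj'⟩ := (Nat.dvd_prime_pow (Fact.out : p.Prime)).mp
            (hA ▸ K.card_subgroup_dvd_card)
          have h3 : p < Nat.card K := by
            rw [← hoa, ← Nat.card_zpowers]
            exact lt_of_le_of_ne (Subgroup.card_le_of_le hle.le)
              fun he => hle.ne (Subgroup.eq_of_le_of_card_ge hle.le he.ge)
          rw [hA, hj']
          rw [hj'] at h3
          rcases hj.lt_or_eq with hlt | rfl
          · exact absurd h3 (not_lt.mpr ((Nat.pow_le_pow_right (Fact.out : p.Prime).pos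
              (Nat.lt_succ_iff.mp hlt)).trans_eq (pow_one p)))
          · rfl
        exact (hK ▸ Subgroup.mem_top c : c ∈ K)
      have hid : ∑ j ∈ Finset.range p, aSum (actRep φ V hi) (a ^ j * b) p v =
          p • v + aSum (actRep φ V hi) a p (aSum (actRep φ V hi) b p v) -
            aSum (actRep φ V hi) a p v := by
        set S := actRep φ V hi
        have h4 : ∀ i ∈ Finset.range p, ∑ j ∈ Finset.range p, S ((a ^ j * b) ^ i) v =
            if i = 0 then p • v else aSum S a p (S (b ^ i) v) := by
          intro i hi'
          split_ifs with h0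
          · subst h0
            simp
          · simp only [aSum, ← mul_apply', mul_pow, ← pow_mul]
            -- `j ↦ j * i` permutes the residues modulo `p`
            refine Finset.sum_bij (fun j _ => j * i % p) ?_ ?_ ?_ ?_
            · intro j _
              exact Finset.mem_range.mpr (Nat.mod_lt _ (Fact.out : p.Prime).pos)
            · intro j₁ h₁ j₂ h₂ he
              have he' : j₁ * i ≡ j₂ * i [MOD p] := he
              have hcop : Nat.gcd p i = 1 := (Fact.out : p.Prime).coprime_iff_not_dvd.mpr fun hd =>
                absurd (Nat.le_of_dvd (Nat.pos_of_ne_zero h0) hd)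
                  (not_le.mpr (Finset.mem_range.mp hi'))
              exact (Nat.ModEq.cancel_right_of_coprime hcop he').eq_of_lt_of_lt
                (Finset.mem_range.mp h₁) (Finset.mem_range.mp h₂)
            · intro k hk
              obtain ⟨e, -, he⟩ := Nat.exists_mul_mod_eq_one_of_coprime (k := p) (n := i)
                (((Fact.out : p.Prime).coprime_iff_not_dvd.mpr fun hd =>
                  absurd (Nat.le_of_dvd (Nat.pos_of_ne_zero h0) hd)
                    (not_le.mpr (Finset.mem_range.mp hi'))).symm) (Fact.out : p.Prime).one_lt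
              refine ⟨k * e % p, Finset.mem_range.mpr (Nat.mod_lt _ (Fact.out : p.Prime).pos), ?_⟩
              rw [Nat.mod_mul_mod, mul_assoc, mul_comm e i, Nat.mul_mod, he, mul_one, Nat.mod_mod,
                Nat.mod_eq_of_lt (Finset.mem_range.mp hk)]
            · intro j _
              rw [← pow_eq_pow_mod _ (hexpA a)]
        have h0 : 0 ∈ Finset.range p := Finset.mem_range.mpr (Fact.out : p.Prime).pos
        calc ∑ j ∈ Finset.range p, aSum S (a ^ j * b) p v
            = ∑ i ∈ Finset.range p, if i = 0 then p • v else aSum S a p (S (b ^ i) v) := by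
              simp only [aSum]
              rw [Finset.sum_comm]
              exact Finset.sum_congr rfl h4
          _ = p • v + ∑ i ∈ (Finset.range p).erase 0, aSum S a p (S (b ^ i) v) := by
              rw [← Finset.add_sum_erase _ _ h0, if_pos rfl]
              congr 1
              exact Finset.sum_congr rfl fun i hi' => if_neg (Finset.ne_of_mem_erase hi')
          _ = _ := by
              have h5 : aSum S a p (aSum S b p v) =
                  ∑ i ∈ Finset.range p, aSum S a p (S (b ^ i) v) := by
                simp only [aSum, map_sum]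
                exact Finset.sum_comm
              rw [h5, ← Finset.add_sum_erase _ _ h0, pow_zero, one_apply']
              abel
      rw [hdouble, add_zero, eq_sub_iff_add_eq] at hid
      rw [← hid]
      refine HV.add_mem (HV.sum_mem fun j _ => hin _ fun h1 => hb ?_) (hin a ha)
      rw [eq_inv_of_mul_eq_one_right h1]
      exact inv_mem (Subgroup.npow_mem_zpowers a j)
    -- `p` is prime to the order of `V`
    have hcop : (Nat.card V).Coprime p := ((Fact.out : p.Prime).coprime_iff_not_dvd.mpr
      fun hd => hnd (hd.trans V.card_subgroup_dvd_card)).symm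
    obtain ⟨y, hy⟩ := (powCoprime hcop).surjective ⟨x, hx⟩
    have h6 : ((y : G)) ^ p ∈ H := key (Additive.ofMul y)
    rwa [show (y : G) ^ p = x from congrArg Subtype.val hy] at h6

end Cfsg.Agent.Fpf
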