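import Cfsg.Agent.Lib.Fpf.Prime

/-!
A fixed-point-free action of a cyclic group of order dividing four: the square is trivial modulo
the Fitting subgroup.
-/

set_option autoImplicit false

namespace Cfsg.Agent.Fpf

open Cfsg
open scoped IsMulCommutative

universe u v w

section Rep

variable {A : Type v} [Group A] {s : A}

lemma free_of_gen {Q : Type u} [Group Q] {α : A →* MulAut Q} (hs : ∀ a : A, a ∈ Subgroup.zpowers s)
    (hf : Free α) {y : Q} (h : α s y = y) : y = 1 :=
  hf y fun a => fix_zpow α h (hs a)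

theorem tau_trivial [Finite A] (hs : ∀ a : A, a ∈ Subgroup.zpowers s) (hs4 : s ^ 4 = 1)
    {Q : Type u} [Group Q] [Finite Q] [Group.IsNilpotent Q] {W : Type w} [AddCommGroup W] [Finite W]
    (α : A →* MulAut Q) (ρ : Q →* AddMonoid.End W) (S : A →* AddMonoid.End W)
    (hc : Compat α ρ S) (hα : Free α) (hS : ∀ x : W, S s x = x → x = 0)
    (hcop : (Nat.card Q).Coprime (Nat.card W)) :
    ∀ (x : W) (y : Q), ρ (α (s ^ 2) y) x = ρ y x := by
  have hA : IsPGroup 2 A := fun a => ⟨2, by
    obtain ⟨k, rfl⟩ := Subgroup.mem_zpowers_iff.mp (hs a)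
    rw [← zpow_natCast, ← zpow_mul, mul_comm, zpow_mul, zpow_natCast]
    norm_num [hs4]⟩
  induction hn : Nat.card Q using Nat.strong_induction_on generalizing Q W with
  | _ n ih =>
    subst hn
    rcases subsingleton_or_nontrivial Q with hQ | hQ
    · intro x y
      rw [Subsingleton.elim (α (s ^ 2) y) y]
    -- descending to a quotient
    have descend : ∀ (K : Subgroup Q) [K.Normal], Inv α K → K ≠ ⊥ → ∀ x ∈ fixedSub ρ K,
        ∀ y : Q, ρ (α (s ^ 2) y) x = ρ y x := by
      intro K _ hK hK1 x hx y
      set X := fixedSub ρ K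
      have hXQ : ∀ m, ∀ x ∈ X, ρ m x ∈ X := fun m x hx => rho_mem_fixedSub K m x hx
      have hXA : ∀ a, ∀ x ∈ X, S a x ∈ X := fun a x hx =>
        S_mem_fixedSub hc K (fun k hk => hK a⁻¹ k hk) x hx
      let ρ' : Q ⧸ K →* AddMonoid.End X := QuotientGroup.lift K (subRep ρ X hXQ) fun k hk =>
        MonoidHom.mem_ker.mpr (AddMonoidHom.ext fun z => Subtype.ext (z.2 k hk))
      have hlt : Nat.card (Q ⧸ K) < Nat.card Q := by
        rw [K.card_eq_card_quotient_mul_card_subgroup]
        exact lt_mul_of_one_lt_right Nat.card_pos ((Subgroup.one_lt_card_iff_ne_bot K).mpr hK1)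
      have hc' : Compat (quot K hK) ρ' (subRep S X hXA) := by
        intro a z v
        obtain ⟨g, rfl⟩ := QuotientGroup.mk_surjective z
        exact Subtype.ext (hc a g v)
      have h1 := ih _ hlt (quot K hK) ρ' (subRep S X hXA) hc' (hα.quot hA K hK)
        (fun v hv => Subtype.ext (hS v (congrArg Subtype.val hv)))
        ((hcop.coprime_dvd_left (Subgroup.card_quotient_dvd_card K)).coprime_dvd_right
          (AddSubgroup.card_addSubgroup_dvd_card X)) rfl ⟨x, hx⟩ (y : Q ⧸ K)
      exact congrArg Subtype.val h1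
    have haS : ∀ x : W, aSum S s 4 x = 0 := fun x => hS _ (S_aSum hs4 x)
    have hfix1 : ∀ z : Q, α (s ^ 1) z = z → z = 1 := fun z h =>
      free_of_gen hs hα (by rwa [pow_one] at h)
    have hfix3 : ∀ z : Q, α (s ^ 3) z = z → z = 1 := by
      intro z h
      refine free_of_gen hs hα ?_
      conv_lhs => rw [← h]
      rw [← MulAut.mul_apply, ← map_mul, ← pow_succ', hs4, map_one, MulAut.one_apply]
    have hcomm : ∀ a b : A, a * b = b * a := by
      intro a b
      obtain ⟨i, rfl⟩ := Subgroup.mem_zpowers_iff.mp (hs a)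
      obtain ⟨j, rfl⟩ := Subgroup.mem_zpowers_iff.mp (hs b)
      rw [← zpow_add, ← zpow_add, add_comm]
    set Z := Subgroup.center Q
    haveI : Nontrivial Z := (Subgroup.nontrivial_iff_ne_bot Z).mpr (Group.IsNilpotent.center_ne_bot Q)
    set U := Z ⊓ fix α (s ^ 2) with hU
    by_cases hU1 : U = ⊥
    · intro x y
      refine descend Z (inv_char α Z) ((Subgroup.nontrivial_iff_ne_bot Z).mp inferInstance) x ?_ y
      intro z hz
      refine fixed_of_aSum_eq_zero hc Z s 4 (by norm_num) (fun i _ => inv_char α Z _) ?_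
        (hcop.coprime_dvd_left Z.card_subgroup_dvd_card) (fun z _ => haS _) z hz
      intro i hi hi0 z hzZ hzfix
      interval_cases i
      · exact absurd rfl hi0
      · exact hfix1 z hzfix
      · have : z ∈ U := ⟨hzZ, hzfix⟩
        rwa [hU1, Subgroup.mem_bot] at this
      · exact hfix3 z hzfix
    · haveI hUn : U.Normal := by
        refine ⟨fun u hu g => ?_⟩
        have h1 : g * u * g⁻¹ = u := by
          rw [mul_inv_eq_iff_eq_mul, Subgroup.mem_center_iff.mp hu.1 g]
        rwa [h1]
      have hUi : Inv α U := (inv_char α Z).inf (inv_fix α hcomm _)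
      letI := Fintype.ofFinite U
      -- on the kernel of the sum over `U` the square acts as `-1`
      have hneg : ∀ u : W, eSum ρ U u = 0 → S (s ^ 2) u = -u := by
        intro u hu
        have h1 := sum_conj_aSum hc U s 4 u
        simp only [haS, map_zero, Finset.sum_const_zero] at h1
        rw [Finset.sum_range_succ, Finset.sum_range_succ, Finset.sum_range_succ,
          Finset.sum_range_succ, Finset.sum_range_zero, zero_add,
          sum_twist U (s ^ 1) (hUi _) (fun z _ => hfix1 z),
          sum_twist U (s ^ 3) (hUi _) (fun z _ => hfix3 z),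
          ← S_eSum_comm hc U (hUi _), ← S_eSum_comm hc U (hUi _), hu, map_zero, map_zero,
          add_zero, add_zero] at h1
        have h2 : ∀ z : U, ρ ((z : Q)⁻¹ * α (s ^ 2) z) (S (s ^ 2) u) = S (s ^ 2) u := by
          intro z
          rw [show α (s ^ 2) (z : Q) = z from z.2.2, inv_mul_cancel, one_apply']
        have h3 : ∀ z : U, ρ ((z : Q)⁻¹ * α (s ^ 0) z) (S (s ^ 0) u) = u := by
          intro z
          simp only [pow_zero, map_one, MulAut.one_apply, inv_mul_cancel]
          rfl
        rw [Finset.sum_congr rfl fun z _ => h2 z, Finset.sum_congr rfl fun z _ => h3 z,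
          Finset.sum_const, Finset.sum_const, ← smul_add, Finset.card_univ,
          ← Nat.card_eq_fintype_card] at h1
        have h4 := smul_cancel (y := 0) (hcop.coprime_dvd_left U.card_subgroup_dvd_card)
          (h1.symm.trans (smul_zero _).symm)
        exact (neg_eq_of_add_eq_zero_right h4).symm
      intro x y
      set nU := Nat.card U
      set u := nU • x - eSum ρ U x with hu
      have hue : eSum ρ U u = 0 := by rw [hu, eSum_sub, eSum_nsmul, eSum_eSum, sub_self]
      have hker : ρ (α (s ^ 2) y) u = ρ y u := by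
        have h5 : eSum ρ U (ρ y u) = 0 := by rw [← rho_eSum_comm, hue, map_zero]
        have h6 := hc (s ^ 2) y u
        rw [hneg _ h5, hneg _ hue, map_neg, neg_inj] at h6
        exact h6.symm
      have him : ρ (α (s ^ 2) y) (eSum ρ U x) = ρ y (eSum ρ U x) :=
        descend U hUi hU1 _ (fun k hk => rho_eSum U hk x) y
      refine smul_cancel (hcop.coprime_dvd_left U.card_subgroup_dvd_card) ?_
      rw [← map_nsmul, ← map_nsmul, show nU • x = u + eSum ρ U x by rw [hu, sub_add_cancel],
        map_add, map_add, hker, him]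

end Rep

theorem mem_fitting_of_four {G : Type u} [Group G] [Finite G] [Group.IsSolvable G] {A : Type v}
    [Group A] [Finite A] {s : A} (hs : ∀ a : A, a ∈ Subgroup.zpowers s) (hs4 : s ^ 4 = 1)
    (φ : A →* MulAut G) (hf : Free φ) :
    ∀ g : G, g⁻¹ * φ (s ^ 2) g ∈ fittingSubgroup G := by
  have hA : IsPGroup 2 A := fun a => ⟨2, by
    obtain ⟨k, rfl⟩ := Subgroup.mem_zpowers_iff.mp (hs a)
    rw [← zpow_natCast, ← zpow_mul, mul_comm, zpow_mul, zpow_natCast]
    norm_num [hs4]⟩
  induction hc : Nat.card G using Nat.strong_induction_on generalizing G with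
  | _ n ih =>
    subst hc
    intro g
    rcases subsingleton_or_nontrivial G with hG | hG
    · rw [Subsingleton.elim (g⁻¹ * φ (s ^ 2) g) 1]; exact one_mem _
    obtain ⟨V, r, hVn, hi, hne, hr, hab, hexp, hmin⟩ := exists_minimal φ
    haveI := Fact.mk hr
    set C := Subgroup.centralizer (V : Set G) with hC
    set ψ := quot C hi.centralizer with hψ
    set F := fittingSubgroup (G ⧸ C) with hFdef
    have hFi : Inv ψ F := inv_char ψ F
    -- the square fixes the Fitting subgroup of the image
    have hfix : ∀ f ∈ F, ψ (s ^ 2) f = f := by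
      intro f hf'
      have hcomp : Compat (restrict F hFi) ((quotRep V).comp F.subtype) (actRep φ V hi) :=
        fun a y x => compat_quotRep V hi a (y : G ⧸ C) x
      have h := tau_trivial hs hs4 (restrict F hFi) ((quotRep V).comp F.subtype) (actRep φ V hi)
        hcomp ((hf.quot hA C hi.centralizer).restrict hFi)
        (fun x hx => actRep_free V hf hi x fun a => by
          refine Additive.toMul.injective (Subtype.ext ?_)
          rw [actRep_apply]
          exact fix_zpow φ (by rw [← actRep_apply φ V hi, hx]) (hs a))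
        (coprime_card_additive V hexp (not_dvd_card_fitting V hne hi hmin hexp))
      have h' : quotRep V (ψ (s ^ 2) f) = quotRep V f :=
        AddMonoidHom.ext fun x => h x ⟨f, hf'⟩
      have h'' : quotRep V ((ψ (s ^ 2) f)⁻¹ * f) = 1 := by
        rw [map_mul, ← h', ← map_mul, inv_mul_cancel, map_one]
      exact inv_mul_eq_one.mp (quotRep_eq_one V h'')
    have hodd : ¬ 2 ∣ Nat.card (G ⧸ C) := (hf.quot hA C hi.centralizer).not_dvd_card hA
    set y : G ⧸ C := (g : G ⧸ C) with hy
    set c := y⁻¹ * ψ (s ^ 2) y with hcdef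
    have hcC : c ∈ Subgroup.centralizer (F : Set (G ⧸ C)) := by
      rw [Subgroup.mem_centralizer_iff]
      intro f hf'
      have h1 : y * f * y⁻¹ ∈ F := (inferInstance : F.Normal).conj_mem f hf' y
      have h2 := hfix _ h1
      rw [map_mul, map_mul, map_inv, hfix f hf'] at h2
      have h3 : y⁻¹ * (ψ (s ^ 2) y * f * (ψ (s ^ 2) y)⁻¹) * ψ (s ^ 2) y =
          y⁻¹ * (y * f * y⁻¹) * ψ (s ^ 2) y := by rw [h2]
      rw [hcdef]
      simpa [mul_assoc] using h3.symm
    haveI : Group.IsSolvable (G ⧸ C) := inferInstance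
    have hcfix : ψ (s ^ 2) c = c := hfix c (Basics.centralizer_fittingSubgroup_le hcC)
    have hτy : ψ (s ^ 2) y = y * c := by rw [hcdef, mul_inv_cancel_left]
    have hc2 : c ^ 2 = 1 := by
      have h4 : ψ (s ^ 2) (ψ (s ^ 2) y) = y := by
        rw [← MulAut.mul_apply, ← map_mul, ← pow_add, hs4, map_one, MulAut.one_apply]
      rw [hτy, map_mul, hτy, hcfix, mul_assoc, mul_eq_left] at h4
      rwa [pow_two]
    have hc1 : c = 1 := by
      rw [← orderOf_eq_one_iff]
      exact Nat.eq_one_of_dvd_coprimes ((Nat.prime_two.coprime_iff_not_dvd).mpr hodd)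
        (orderOf_dvd_of_pow_eq_one hc2) (_root_.orderOf_dvd_natCard c)
    refine mem_fitting_of_quotient V ?_ ?_
    · have hlt : Nat.card (G ⧸ V) < Nat.card G := by
        rw [V.card_eq_card_quotient_mul_card_subgroup]
        exact lt_mul_of_one_lt_right Nat.card_pos ((Subgroup.one_lt_card_iff_ne_bot V).mpr hne)
      exact ih _ hlt (quot V hi) (hf.quot hA V hi) rfl (g : G ⧸ V)
    · exact (QuotientGroup.eq_one_iff _).mp hc1

end Cfsg.Agent.Fpf
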