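import Cfsg.Agent.Lib.Fpf.Prime
import Cfsg.Agent.Lib.Basics.Tools

/-!
An elementary abelian group of order `p ^ 2` acting fixed-point-freely on a solvable group:
the quotient by the Fitting subgroup is nilpotent (Ward).
-/

set_option autoImplicit false

namespace Cfsg.Agent.Fpf

open Cfsg
open scoped IsMulCommutative Pointwise commutatorElement

universe u v w

section Two

variable {A : Type v} [CommGroup A] [Finite A] {p : ℕ} [Fact p.Prime]

lemma mem_zpowers_symm (hexpA : ∀ a : A, a ^ p = 1) {a c : A} (hc : c ∈ Subgroup.zpowers a)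
    (hc1 : c ≠ 1) : a ∈ Subgroup.zpowers c := by
  have ha1 : a ≠ 1 := by
    rintro rfl
    simp at hc
    exact hc1 hc
  have hle : Subgroup.zpowers c ≤ Subgroup.zpowers a := Subgroup.zpowers_le.mpr hc
  rw [Subgroup.eq_of_le_of_card_ge hle (by
    rw [Nat.card_zpowers, Nat.card_zpowers, orderOf_eq_prime (hexpA a) ha1,
      orderOf_eq_prime (hexpA c) hc1])]
  exact Subgroup.mem_zpowers a

lemma eq_top_of_two (hA : Nat.card A = p ^ 2) (hexpA : ∀ a : A, a ^ p = 1) {a c : A} (ha1 : a ≠ 1)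
    (hc : c ∉ Subgroup.zpowers a) {K : Subgroup A} (ha : a ∈ K) (hcK : c ∈ K) : K = ⊤ := by
  have hle : Subgroup.zpowers a < K := lt_of_le_of_ne (Subgroup.zpowers_le.mpr ha)
    fun he => hc (he.symm.le hcK)
  refine Subgroup.eq_top_of_card_eq K ?_
  obtain ⟨j, hj, hj'⟩ := (Nat.dvd_prime_pow (Fact.out : p.Prime)).mp (hA ▸ K.card_subgroup_dvd_card)
  have h3 : p < Nat.card K := by
    have := Basics.card_lt_of_lt hle
    rwa [Nat.card_zpowers, orderOf_eq_prime (hexpA a) ha1] at this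
  rw [hA, hj']
  rw [hj'] at h3
  have : 1 < j := (Nat.pow_lt_pow_iff_right (Fact.out : p.Prime).one_lt).mp (by rwa [pow_one])
  rw [show j = 2 by omega]

lemma exists_ne_one (hA : Nat.card A = p ^ 2) : ∃ a : A, a ≠ 1 := by
  haveI : Nontrivial A := Finite.one_lt_card_iff_nontrivial.mp
    (hA ▸ Nat.one_lt_pow two_ne_zero (Fact.out : p.Prime).one_lt)
  exact exists_ne 1

lemma exists_not_mem_zpowers (hA : Nat.card A = p ^ 2) (hexpA : ∀ a : A, a ^ p = 1) (a : A) :
    ∃ c, c ∉ Subgroup.zpowers a := by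
  by_contra hcon
  simp only [not_exists, not_not] at hcon
  have h1 := Subgroup.card_le_of_le (K := Subgroup.zpowers a) (H := ⊤) fun x _ => hcon x
  rw [Subgroup.card_top, hA, Nat.card_zpowers] at h1
  have h2 : orderOf a ≤ p :=
    Nat.le_of_dvd (Fact.out : p.Prime).pos (orderOf_dvd_of_pow_eq_one (hexpA a))
  nlinarith [(Fact.out : p.Prime).two_le]

/-- a point fixed by two independent elements is fixed by everything -/
lemma fixed_of_two (hA : Nat.card A = p ^ 2) (hexpA : ∀ a : A, a ^ p = 1) {a c : A} (ha1 : a ≠ 1)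
    (hc : c ∉ Subgroup.zpowers a) {X : Type w} [MulAction A X] {x : X} (hx : a • x = x)
    (hy : c • x = x) (b : A) : b • x = x := by
  have h : MulAction.stabilizer A x = ⊤ := eq_top_of_two hA hexpA ha1 hc hx hy
  exact (h ▸ Subgroup.mem_top b : b ∈ MulAction.stabilizer A x)

lemma eq_one_of_two (hA : Nat.card A = p ^ 2) (hexpA : ∀ a : A, a ^ p = 1) {a c : A} (ha1 : a ≠ 1)
    (hc : c ∉ Subgroup.zpowers a) {Q : Type u} [Group Q] {ψ : A →* MulAut Q} (hψ : Free ψ) {x : Q}
    (hx : ψ a x = x) (hy : ψ c x = x) : x = 1 := by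
  let act : MulAction A Q := MulAction.compHom Q ψ
  exact hψ x fun b => fixed_of_two hA hexpA ha1 hc (X := Q) (x := x) hx hy b

lemma eq_zero_of_two (hA : Nat.card A = p ^ 2) (hexpA : ∀ a : A, a ^ p = 1) {a c : A} (ha1 : a ≠ 1)
    (hc : c ∉ Subgroup.zpowers a) {W : Type w} [AddCommGroup W] {S : A →* AddMonoid.End W}
    (hS : ∀ x : W, (∀ a, S a x = x) → x = 0) {x : W} (hx : S a x = x) (hy : S c x = x) : x = 0 := by
  let act : MulAction A W :=
    { smul := fun b v => S b v
      one_smul := fun v => one_apply' S v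
      mul_smul := fun b b' v => mul_apply' S b b' v }
  exact hS x fun b => fixed_of_two hA hexpA ha1 hc (X := W) (x := x) hx hy b

variable (hA : Nat.card A = p ^ 2) (hexpA : ∀ a : A, a ^ p = 1)

include hA hexpA

/-- every non-zero submodule has a non-zero vector that is blind to some twist -/
theorem exists_twist_fixed {R : Type u} [Group R] [Finite R] [Group.IsNilpotent R] {W : Type w}
    [AddCommGroup W] [Finite W] (α : A →* MulAut R) (ρ : R →* AddMonoid.End W)
    (S : A →* AddMonoid.End W) (hc : Compat α ρ S) (hα : Free α)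
    (hS : ∀ x : W, (∀ a, S a x = x) → x = 0) (hcop : (Nat.card R).Coprime (Nat.card W))
    (U : AddSubgroup W) (hU : ∀ y, ∀ u ∈ U, ρ y u ∈ U) (hU0 : U ≠ ⊥) :
    ∃ a : A, a ≠ 1 ∧ ∃ u ∈ U, u ≠ 0 ∧ ∀ y, ρ (α a y) u = ρ y u := by
  have hAp : IsPGroup p A := IsPGroup.of_card hA
  induction hn : Nat.card R using Nat.strong_induction_on generalizing R W with
  | _ n ih =>
    subst hn
    obtain ⟨u0, hu0, hu0ne⟩ := (AddSubgroup.bot_or_exists_ne_zero U).resolve_left hU0
    rcases subsingleton_or_nontrivial R with hR | hR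
    · obtain ⟨a, ha⟩ := exists_ne_one hA
      exact ⟨a, ha, u0, hu0, hu0ne, fun y => by rw [Subsingleton.elim (α a y) y]⟩
    set Z := Subgroup.center R with hZ
    haveI : Nontrivial Z :=
      (Subgroup.nontrivial_iff_ne_bot Z).mpr (Group.IsNilpotent.center_ne_bot R)
    obtain ⟨a, ha1, haZ⟩ : ∃ a : A, a ≠ 1 ∧ Z ⊓ fix α a ≠ ⊥ := by
      by_contra hcon
      simp only [not_exists, not_and, ne_eq, not_not] at hcon
      have h := eq_top_of_fix_le (p := p) hA hexpA (restrict Z (inv_char α Z)) (hα.restrict _) ⊥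
        fun a ha x hx => by
          have h1 : (x : R) ∈ Z ⊓ fix α a := ⟨x.2, congrArg Subtype.val hx⟩
          rw [hcon a ha, Subgroup.mem_bot] at h1
          exact Subgroup.mem_bot.mpr (Subtype.ext h1)
      exact bot_ne_top h
    set U0 := Z ⊓ fix α a with hU0def
    have hU0i : Inv α U0 := (inv_char α Z).inf (inv_fix α (fun a b => mul_comm a b) a)
    haveI hU0n : U0.Normal := ⟨fun z hz g => by
      rw [Subgroup.mem_center_iff.mp hz.1 g, mul_inv_cancel_right]; exact hz⟩
    by_cases hX : ∃ u ∈ U, u ≠ 0 ∧ u ∈ fixedSub ρ U0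
    · -- descend to the quotient
      obtain ⟨u, hu, hune, huX⟩ := hX
      set X := fixedSub ρ U0
      have hXR : ∀ m, ∀ x ∈ X, ρ m x ∈ X := fun m x hx => rho_mem_fixedSub U0 m x hx
      have hXA : ∀ b, ∀ x ∈ X, S b x ∈ X := fun b x hx =>
        S_mem_fixedSub hc U0 (fun k hk => hU0i b⁻¹ k hk) x hx
      let ρ' : R ⧸ U0 →* AddMonoid.End X := QuotientGroup.lift U0 (subRep ρ X hXR) fun k hk =>
        MonoidHom.mem_ker.mpr (AddMonoidHom.ext fun z => Subtype.ext (z.2 k hk))
      have hlt : Nat.card (R ⧸ U0) < Nat.card R := Basics.card_quotient_lt haZ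
      have hc' : Compat (quot U0 hU0i) ρ' (subRep S X hXA) := by
        intro b z v
        obtain ⟨g, rfl⟩ := QuotientGroup.mk_surjective z
        exact Subtype.ext (hc b g v)
      obtain ⟨b, hb, v, hv, hvne, hvfix⟩ := ih _ hlt (quot U0 hU0i) ρ' (subRep S X hXA) hc'
        (hα.quot hAp U0 hU0i) (fun v hv => Subtype.ext (hS v fun b => congrArg Subtype.val (hv b)))
        ((hcop.coprime_dvd_left (Subgroup.card_quotient_dvd_card U0)).coprime_dvd_right
          (AddSubgroup.card_addSubgroup_dvd_card X))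
        (U.comap X.subtype) (fun z v hv => by
          obtain ⟨g, rfl⟩ := QuotientGroup.mk_surjective z
          exact hU g v hv)
        (fun h => hune (by
          have h1 : (⟨u, huX⟩ : X) ∈ U.comap X.subtype := hu
          rw [h, AddSubgroup.mem_bot] at h1
          exact congrArg Subtype.val h1)) rfl
      exact ⟨b, hb, v, hv, fun h => hvne (Subtype.ext h),
        fun y => congrArg Subtype.val (hvfix (y : R ⧸ U0))⟩
    · -- the sum over `U0` kills `U`
      have hker : ∀ u ∈ U, eSum ρ U0 u = 0 := by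
        intro u hu
        by_contra hne
        refine hX ⟨_, ?_, hne, fun k hk => rho_eSum U0 hk u⟩
        let := Fintype.ofFinite U0
        exact U.sum_mem fun z _ => hU _ u hu
      have hfree2 : ∀ (b c : A), b ≠ 1 → c ∉ Subgroup.zpowers b → ∀ i < p, i ≠ 0 → ∀ z : R,
          α (b ^ i) z = z → α c z = z → z = 1 := fun b c hb hc' i hi hi0 z hz hz' =>
        eq_one_of_two hA hexpA hb hc' hα (fixed_of_pow α (hexpA b) hi hi0 hz) hz'
      have hact : ∀ (c : A), c ∉ Subgroup.zpowers a → ∀ y : R, α c y = y → ∀ u ∈ U, ρ y u = u := by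
        intro c hca y hy u hu
        have hac : a ∉ Subgroup.zpowers c := fun h => hca (mem_zpowers_symm hexpA h ha1)
        have hc1 : c ≠ 1 := fun h => hca (h ▸ one_mem _)
        refine fixed_of_fix_aSum hc U0 c p (Fact.out : p.Prime).pos (fun i _ => hU0i _)
          (fun i hi hi0 z hz hzc => hfree2 c a hc1 hac i hi hi0 z hzc hz.2)
          (hcop.coprime_dvd_left U0.card_subgroup_dvd_card)
          (fun z hz => Subgroup.mem_center_iff.mp hz.1 y) ?_ (hker u hu)
        intro x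
        set v := aSum S c p x with hv
        have hcv : S c v = v := S_aSum (hexpA c) x
        refine fixed_of_aSum_eq_zero hc (fix α c) a p (Fact.out : p.Prime).pos
          (fun i _ => inv_fix α (fun a b => mul_comm a b) c _)
          (fun i hi hi0 z hz hza => hfree2 a c ha1 hca i hi hi0 z hza hz)
          (hcop.coprime_dvd_left (fix α c).card_subgroup_dvd_card) ?_ y hy
        intro z hz
        refine eq_zero_of_two hA hexpA ha1 hca hS (S_aSum (hexpA a) _) ?_
        simp only [aSum, map_sum]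
        refine Finset.sum_congr rfl fun i _ => ?_
        rw [← mul_apply', mul_comm c, mul_apply', hc c, show α c z = z from hz, hcv]
      let H : Subgroup R :=
        { carrier := {x | ∀ u ∈ U, ρ (α a x) u = ρ x u}
          one_mem' := fun u _ => by rw [map_one]
          mul_mem' := fun {x y} hx hy u hu => by
            rw [map_mul, mul_apply', mul_apply', hy u hu, hx _ (hU y u hu)]
          inv_mem' := fun {x} hx u hu => by
            have h := hx _ (hU x⁻¹ u hu)
            rw [← mul_apply' ρ x, mul_inv_cancel, one_apply'] at h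
            have h2 := congrArg (ρ (α a x)⁻¹) h
            rw [← mul_apply' ρ (α a x)⁻¹, inv_mul_cancel, one_apply'] at h2
            rw [map_inv, ← h2] }
      have hH : H = ⊤ := eq_top_of_fix_le (p := p) hA hexpA α hα H fun c hc1 y hy u hu => by
        rw [mem_fix] at hy
        by_cases hca : c ∈ Subgroup.zpowers a
        · rw [fix_zpow α hy (mem_zpowers_symm hexpA hca hc1)]
        · have hy' : α c (α a y) = α a y := by
            rw [← MulAut.mul_apply, ← map_mul, mul_comm c, map_mul, MulAut.mul_apply, hy]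
          rw [hact c hca y hy u hu, hact c hca _ hy' u hu]
      exact ⟨a, ha1, u0, hu0, hu0ne, fun y => (hH ▸ Subgroup.mem_top y : y ∈ H) u0 hu0⟩

end Two

section Fixer

variable {Q : Type u} [Group Q] {W : Type w} [AddCommGroup W]

/-- pointwise stabiliser of a set of vectors -/
def fixer (ρ : Q →* AddMonoid.End W) (U : Set W) : Subgroup Q where
  carrier := {y | ∀ u ∈ U, ρ y u = u}
  one_mem' u _ := one_apply' ρ u
  mul_mem' {x y} hx hy u hu := by rw [mul_apply', hy u hu, hx u hu]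
  inv_mem' {x} hx u hu := by
    conv_lhs => rw [← hx u hu]
    rw [← mul_apply', inv_mul_cancel, one_apply']

/-- minimal non-zero submodule for a subgroup -/
def IsMinSub (ρ : Q →* AddMonoid.End W) (R : Subgroup Q) (U : AddSubgroup W) : Prop :=
  U ≠ ⊥ ∧ (∀ y ∈ R, ∀ u ∈ U, ρ y u ∈ U) ∧
    ∀ U' ≤ U, (∀ y ∈ R, ∀ u ∈ U', ρ y u ∈ U') → U' = ⊥ ∨ U' = U

variable {ρ : Q →* AddMonoid.End W}

lemma IsMinSub.map {R : Subgroup Q} [hR : R.Normal] {U : AddSubgroup W} (h : IsMinSub ρ R U)
    (x : Q) : IsMinSub ρ R (U.map (ρ x : W →+ W)) := by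
  have hinj : ∀ v v' : W, ρ x v = ρ x v' → v = v' := fun v v' hv => by
    have h2 := congrArg (ρ x⁻¹) hv
    rwa [← mul_apply', ← mul_apply', inv_mul_cancel, one_apply', one_apply'] at h2
  have hconj : ∀ y ∈ R, ∀ v : W, ρ y (ρ x v) = ρ x (ρ (x⁻¹ * y * x) v) := by
    intro y _ v
    rw [← mul_apply', ← mul_apply']
    congr 2
    group
  refine ⟨?_, ?_, ?_⟩
  · intro hb
    obtain ⟨u, hu, hune⟩ := (AddSubgroup.bot_or_exists_ne_zero U).resolve_left h.1
    have : ρ x u ∈ U.map (ρ x : W →+ W) := ⟨u, hu, rfl⟩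
    rw [hb, AddSubgroup.mem_bot] at this
    exact hune (hinj u 0 (this.trans (map_zero _).symm))
  · rintro y hy _ ⟨u, hu, rfl⟩
    refine ⟨_, h.2.1 _ ?_ u hu, (hconj y hy u).symm⟩
    simpa using hR.conj_mem y hy x⁻¹
  · intro U' hle hU'
    set V := U'.comap (ρ x : W →+ W) with hV
    have hVle : V ≤ U := fun v hv => by
      obtain ⟨u, hu, he⟩ := hle hv
      rwa [← hinj u v he]
    have hVst : ∀ y ∈ R, ∀ u ∈ V, ρ y u ∈ V := by
      intro y hy u hu
      have h2 : ρ (x * y * x⁻¹) (ρ x u) ∈ U' := hU' _ (hR.conj_mem y hy x) _ hu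
      show ρ x (ρ y u) ∈ U'
      rwa [← mul_apply' ρ (x * y * x⁻¹) x, inv_mul_cancel_right, mul_apply'] at h2
    rcases h.2.2 V hVle hVst with h1 | h1
    · left
      rw [eq_bot_iff]
      intro v hv
      obtain ⟨u, hu, rfl⟩ := hle hv
      have : u ∈ V := hv
      rw [h1, AddSubgroup.mem_bot] at this
      rw [AddSubgroup.mem_bot, this]
      exact map_zero (ρ x)
    · right
      refine le_antisymm hle ?_
      rintro _ ⟨u, hu, rfl⟩
      exact (h1.symm.le hu : u ∈ V)

/-- a subgroup fixing every minimal submodule acts trivially -/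
lemma eq_one_of_fix_minimal [Finite W] {R : Subgroup Q} [Finite R]
    (hcop : (Nat.card R).Coprime (Nat.card W)) (hfaith : ∀ y, ρ y = 1 → y = 1) {y : Q} (hy : y ∈ R)
    (h : ∀ U, IsMinSub ρ R U → ∀ u ∈ U, ρ y u = u) : y = 1 := by
  set ρR := ρ.comp R.subtype with hρR
  set K0 : Subgroup R := fixer ρR {u | ∃ U, IsMinSub ρ R U ∧ u ∈ U} with hK0
  haveI hn : K0.Normal := by
    refine ⟨fun k hk g => ?_⟩
    rintro u ⟨U, hU, hu⟩
    have h1 : ρR k (ρR g⁻¹ u) = ρR g⁻¹ u := hk _ ⟨U, hU, hU.2.1 _ (g⁻¹).2 u hu⟩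
    rw [mul_apply', mul_apply', h1, ← mul_apply', mul_inv_cancel, one_apply']
  have hcop0 := hcop.coprime_dvd_left K0.card_subgroup_dvd_card
  let Y : AddSubgroup W :=
    { carrier := {x | eSum ρR K0 x = 0}
      add_mem' := fun {a b} ha hb => by
        show eSum ρR K0 (a + b) = 0
        rw [eSum_add, ha, hb, add_zero]
      zero_mem' := eSum_zero K0
      neg_mem' := fun {a} ha => by
        show eSum ρR K0 (-a) = 0
        rw [← zero_sub, eSum_sub, eSum_zero, ha, sub_zero] }
  have hYR : ∀ g ∈ R, ∀ u ∈ Y, ρ g u ∈ Y := fun g hg u hu => by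
    show eSum ρR K0 (ρR ⟨g, hg⟩ u) = 0
    rw [← rho_eSum_comm, hu, map_zero]
  have hY : Y = ⊥ := by
    by_contra hne
    obtain ⟨U, ⟨hUne, hUR, hUY⟩, hUmin⟩ := WellFounded.has_min
      (wellFounded_lt (α := AddSubgroup W))
      {U | U ≠ ⊥ ∧ (∀ g ∈ R, ∀ u ∈ U, ρ g u ∈ U) ∧ U ≤ Y} ⟨Y, hne, hYR, le_rfl⟩
    have hmin : IsMinSub ρ R U := ⟨hUne, hUR, fun U' hle hst => by
      by_contra hcon
      rw [not_or] at hcon
      exact hUmin U' ⟨hcon.1, hst, hle.trans hUY⟩ (lt_of_le_of_ne hle hcon.2)⟩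
    obtain ⟨u, hu, hune⟩ := (AddSubgroup.bot_or_exists_ne_zero U).resolve_left hUne
    have h1 : eSum ρR K0 u = 0 := hUY hu
    have h2 : eSum ρR K0 u = Nat.card K0 • u := by
      let := Fintype.ofFinite K0
      simp only [eSum]
      rw [Finset.sum_congr rfl (fun z _ => (z.2 : (z : R) ∈ K0) u ⟨U, hmin, hu⟩), Finset.sum_const,
        Finset.card_univ, Nat.card_eq_fintype_card]
    exact hune (smul_cancel hcop0 ((h2.symm.trans h1).trans (smul_zero _).symm))
  refine hfaith y (AddMonoidHom.ext fun x => ?_)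
  have hyK : (⟨y, hy⟩ : R) ∈ K0 := by
    rintro u ⟨U, hU, hu⟩
    exact h U hU u hu
  have hx : Nat.card K0 • x - eSum ρR K0 x ∈ Y := by
    show eSum ρR K0 _ = 0
    rw [eSum_sub, eSum_nsmul, eSum_eSum, sub_self]
  rw [hY, AddSubgroup.mem_bot, sub_eq_zero] at hx
  show ρ y x = x
  refine smul_cancel hcop0 ?_
  rw [← map_nsmul, hx]
  exact rho_eSum (ρ := ρR) K0 hyK x

end Fixer

section Nil

variable {Q : Type u} [Group Q] [Finite Q]

/-- induction on the order along prime powers -/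
lemma mem_of_prime_power (H : Subgroup Q) {x : Q}
    (h : ∀ z ∈ Subgroup.zpowers x, ∀ s k : ℕ, s.Prime → z ^ s ^ k = 1 → z ∈ H) : x ∈ H := by
  suffices ∀ n : ℕ, 0 < n → ∀ z ∈ Subgroup.zpowers x, z ^ n = 1 → z ∈ H from
    this _ (orderOf_pos x) x (Subgroup.mem_zpowers x) (pow_orderOf_eq_one x)
  intro n
  induction n using Nat.recOnPrimeCoprime with
  | zero => intro h0; omega
  | prime_pow s k hs => exact fun _ z hz hzn => h z hz s k hs hzn
  | coprime m n hm hn hmn ihm ihn =>
    intro _ z hz hzn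
    obtain ⟨u, v, huv⟩ := (Int.isCoprime_iff_nat_coprime.mpr
      (show (Int.natAbs (m : ℤ)).Coprime (Int.natAbs (n : ℤ)) by simpa using hmn))
    have h1 : z ^ m ∈ H := ihn (by omega) _ (pow_mem hz m) (by rw [← pow_mul, hzn])
    have h2 : z ^ n ∈ H := ihm (by omega) _ (pow_mem hz n) (by rw [← pow_mul, mul_comm, hzn])
    have h3 : z = (z ^ m) ^ u * (z ^ n) ^ v := by
      rw [← zpow_natCast, ← zpow_natCast, ← zpow_mul, ← zpow_mul, ← zpow_add, mul_comm (m : ℤ),
        mul_comm (n : ℤ), huv, zpow_one]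
    rw [h3]
    exact mul_mem (zpow_mem h1 u) (zpow_mem h2 v)

lemma mem_pCore_of_nilpotent [Group.IsNilpotent Q] {s k : ℕ} [Fact s.Prime] {x : Q}
    (hx : x ^ s ^ k = 1) : x ∈ pCore s Q := by
  have hiff : Group.IsNilpotent Q ↔
      ∀ (q : ℕ) (_ : Fact q.Prime) (P : Sylow q Q), (P : Subgroup Q).Normal :=
    (Group.isNilpotent_of_finite_tfae (G := Q)).out 0 3
  have hp : IsPGroup s (Subgroup.zpowers x) := fun y => ⟨k, by
    obtain ⟨i, hi⟩ := Subgroup.mem_zpowers_iff.mp y.2
    refine Subtype.ext ?_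
    show (y : Q) ^ s ^ k = 1
    rw [← hi, ← zpow_natCast, ← zpow_mul, mul_comm, zpow_mul, zpow_natCast, hx, one_zpow]⟩
  obtain ⟨P, hP⟩ := hp.exists_le_sylow
  haveI : (P : Subgroup Q).Normal := hiff.mp inferInstance s inferInstance P
  exact Basics.le_pCore P.isPGroup' (hP (Subgroup.mem_zpowers x))

lemma mem_pCore_of_mem_fitting {s k : ℕ} [Fact s.Prime] {x : Q} (hxF : x ∈ fittingSubgroup Q)
    (hx : x ^ s ^ k = 1) : x ∈ pCore s Q := by
  have h : (⟨x, hxF⟩ : fittingSubgroup Q) ∈ pCore s (fittingSubgroup Q) :=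
    mem_pCore_of_nilpotent (Subtype.ext hx)
  have hle : (pCore s (fittingSubgroup Q)).map (fittingSubgroup Q).subtype ≤ pCore s Q :=
    Basics.le_pCore ((Basics.pCore_isPGroup s).map _)
  exact hle ⟨_, h, rfl⟩

lemma commute_of_nilpotent [Group.IsNilpotent Q] {s q i j : ℕ} [Fact s.Prime] [Fact q.Prime]
    (hne : s ≠ q) {x y : Q} (hx : x ^ s ^ i = 1) (hy : y ^ q ^ j = 1) : Commute x y :=
  Basics.commute_pCore hne (mem_pCore_of_nilpotent hx) (mem_pCore_of_nilpotent hy)

/-- with `Q / F(Q)` nilpotent, an `s`-element centralising the other cores lies in `F(Q)` -/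
lemma mem_fitting_of_commute [Group.IsNilpotent (Q ⧸ fittingSubgroup Q)] {s k : ℕ}
    [hs : Fact s.Prime] {x : Q} (hx : x ^ s ^ k = 1)
    (h : ∀ q : ℕ, q.Prime → q ≠ s → ∀ y ∈ pCore q Q, Commute x y) : x ∈ fittingSubgroup Q := by
  set F := fittingSubgroup Q with hF
  set M : Subgroup Q :=
    ⨅ (q : ℕ) (_ : q.Prime ∧ q ≠ s), Subgroup.centralizer (pCore q Q : Set Q) with hM
  haveI hMn : M.Normal := Subgroup.normal_iInf_normal fun q =>
    Subgroup.normal_iInf_normal fun _ => inferInstance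
  set N := M ⊓ (pCore s (Q ⧸ F)).comap (QuotientGroup.mk' F) with hN
  haveI : N.Normal := by rw [hN]; infer_instance
  have hxN : x ∈ N := by
    refine ⟨?_, mem_pCore_of_nilpotent (k := k) ?_⟩
    · show x ∈ M
      rw [hM]
      simp only [Subgroup.mem_iInf, Subgroup.mem_centralizer_iff]
      intro q hq y hy
      exact (h q hq.1 hq.2 y hy).eq.symm
    · rw [← map_pow, hx, map_one]
  refine Basics.le_fittingSubgroup ?_ hxN
  -- every element has an `s`-power in the centre
  have hcen : ∀ f ∈ F, ∀ n : ℕ, ¬ s ∣ n → f ^ n = 1 → ∀ m ∈ M, Commute m f := by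
    intro f hf n hn hfn m hm
    have : f ∈ Subgroup.centralizer {m} ⊓ F := by
      refine mem_of_prime_power _ fun z hz q j hq hzq => ?_
      have hzF : z ∈ F := (Subgroup.zpowers_le.mpr hf) hz
      refine ⟨?_, hzF⟩
      by_cases hqs : q = s
      · subst hqs
        have hzn : z ^ n = 1 := by
          obtain ⟨i, rfl⟩ := Subgroup.mem_zpowers_iff.mp hz
          rw [← zpow_natCast, ← zpow_mul, mul_comm, zpow_mul, zpow_natCast, hfn, one_zpow]
        have hz1 : z = 1 := by
          rw [← orderOf_eq_one_iff]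
          exact Nat.eq_one_of_dvd_coprimes ((hq.coprime_iff_not_dvd.mpr hn).pow_left j)
            (orderOf_dvd_of_pow_eq_one hzq) (orderOf_dvd_of_pow_eq_one hzn)
        rw [hz1]
        exact one_mem _
      · haveI := Fact.mk hq
        have h1 : z ∈ pCore q Q := mem_pCore_of_mem_fitting hzF hzq
        rw [hM] at hm
        simp only [Subgroup.mem_iInf, Subgroup.mem_centralizer_iff] at hm
        show z ∈ Subgroup.centralizer {m}
        rw [Subgroup.mem_centralizer_singleton_iff]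
        exact (hm q ⟨hq, hqs⟩ z h1)
    exact (Subgroup.mem_centralizer_singleton_iff.mp this.1).symm
  have hpg : IsPGroup s (N ⧸ Subgroup.center N) := by
    intro z
    obtain ⟨g, rfl⟩ := QuotientGroup.mk_surjective z
    obtain ⟨i, hi⟩ := Basics.pCore_isPGroup (G := Q ⧸ F) s ⟨_, g.2.2⟩
    have hgF : (g : Q) ^ s ^ i ∈ F :=
      (QuotientGroup.eq_one_iff _).mp ((map_pow (QuotientGroup.mk' F) (g : Q) _).trans
        (congrArg Subtype.val hi))
    set f := (g : Q) ^ s ^ i with hf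
    obtain ⟨j, n, hn, hord⟩ :=
      Nat.exists_eq_pow_mul_and_not_dvd (orderOf_pos f).ne' s hs.out.ne_one
    refine ⟨i + j, ?_⟩
    rw [← QuotientGroup.mk_pow, QuotientGroup.eq_one_iff, Subgroup.mem_center_iff]
    intro m
    refine Subtype.ext ?_
    have h2 : ((g : Q) ^ s ^ (i + j)) = f ^ s ^ j := by rw [hf, ← pow_mul, ← pow_add]
    show (m : Q) * (g : Q) ^ s ^ (i + j) = (g : Q) ^ s ^ (i + j) * m
    rw [h2]
    exact hcen _ (pow_mem hgF _) n hn (by rw [← pow_mul, ← hord, pow_orderOf_eq_one]) m m.2.1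
  haveI := hpg.isNilpotent
  exact Subgroup.isNilpotent_of_ker_le_center (QuotientGroup.mk' (Subgroup.center N))
    (le_of_eq (QuotientGroup.ker_mk' _))

end Nil

section Ward

variable {A : Type v} [CommGroup A] [Finite A] {p : ℕ} [Fact p.Prime]
variable (hA : Nat.card A = p ^ 2) (hexpA : ∀ a : A, a ^ p = 1)

include hA hexpA

variable {Q : Type u} [Group Q] [Finite Q] [Group.IsSolvable Q] {W : Type w} [AddCommGroup W]
  [Finite W] {ψ : A →* MulAut Q} {ρ : Q →* AddMonoid.End W} {S : A →* AddMonoid.End W}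

omit [Group.IsSolvable Q] in
lemma exists_twist_min (hc : Compat ψ ρ S) (hψ : Free ψ) (hS : ∀ x : W, (∀ a, S a x = x) → x = 0)
    {R : Subgroup Q} [Group.IsNilpotent R] (hRi : Inv ψ R)
    (hcop : (Nat.card R).Coprime (Nat.card W)) {U : AddSubgroup W} (hU : IsMinSub ρ R U) :
    ∃ c : A, c ≠ 1 ∧ ∀ y ∈ R, y⁻¹ * ψ c y ∈ R ⊓ fixer ρ U := by
  have hc' : Compat (restrict R hRi) (ρ.comp R.subtype) S := fun a y x => hc a (y : Q) x
  obtain ⟨c, hc1, u, hu, hune, hfix⟩ := exists_twist_fixed hA hexpA (restrict R hRi)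
    (ρ.comp R.subtype) S hc' (hψ.restrict hRi) hS hcop U (fun y u hu => hU.2.1 y y.2 u hu) hU.1
  let U' : AddSubgroup W :=
    { carrier := {v | v ∈ U ∧ ∀ y ∈ R, ρ (ψ c y) v = ρ y v}
      add_mem' := fun {a b} ha hb => ⟨U.add_mem ha.1 hb.1, fun y hy => by
        rw [map_add, map_add, ha.2 y hy, hb.2 y hy]⟩
      zero_mem' := ⟨U.zero_mem, fun y _ => by rw [map_zero, map_zero]⟩
      neg_mem' := fun {a} ha => ⟨U.neg_mem ha.1, fun y hy => by
        rw [map_neg, map_neg, ha.2 y hy]⟩ }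
  have hU' : U' = U := by
    refine (hU.2.2 U' (fun v hv => hv.1) fun y hy v hv => ⟨hU.2.1 y hy v hv.1, fun z hz => ?_⟩).resolve_left
      fun h => hune ?_
    · rw [← hv.2 y hy, ← mul_apply', ← map_mul, hv.2 _ (mul_mem hz hy), mul_apply', hv.2 y hy]
    · have h2 : u ∈ U' := ⟨hu, fun y hy => hfix ⟨y, hy⟩⟩
      rwa [h, AddSubgroup.mem_bot] at h2
  refine ⟨c, hc1, fun y hy => ⟨R.mul_mem (R.inv_mem hy) (hRi c y hy), fun v hv => ?_⟩⟩
  have hv' : v ∈ U' := hU'.symm ▸ hv
  rw [mul_apply', hv'.2 y hy, ← mul_apply', inv_mul_cancel, one_apply']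

theorem commute_core (hc : Compat ψ ρ S) (hψ : Free ψ) (hS : ∀ x : W, (∀ a, S a x = x) → x = 0)
    (hfaith : ∀ y, ρ y = 1 → y = 1) {R : Subgroup Q} [R.Normal] (hRi : Inv ψ R) {q : ℕ}
    [Fact q.Prime] (hR : IsPGroup q R) (hcop : (Nat.card R).Coprime (Nat.card W))
    {a : A} (ha1 : a ≠ 1) {s : ℕ} [Fact s.Prime] (hsq : s ≠ q) [Group.IsNilpotent (fix ψ a)]
    {x : Q} (hxa : ψ a x = x) {k : ℕ} (hxs : x ^ s ^ k = 1) {y : Q} (hy : y ∈ R) : Commute x y := by
  have hAp : IsPGroup p A := IsPGroup.of_card hA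
  have hnd : ∀ H : Subgroup Q, ¬ p ∣ Nat.card H := fun H hd =>
    hψ.not_dvd_card hAp (hd.trans H.card_subgroup_dvd_card)
  haveI : Group.IsNilpotent R := hR.isNilpotent
  set P : Subgroup Q := (pCore s (fix ψ a)).map (fix ψ a).subtype with hPdef
  have hPa : ∀ t ∈ P, ψ a t = t := by
    rintro _ ⟨t, -, rfl⟩
    exact t.2
  have hxP : x ∈ P := ⟨⟨x, hxa⟩, mem_pCore_of_nilpotent (k := k) (Subtype.ext hxs), rfl⟩
  have hPi : Inv ψ P := by
    rintro b _ ⟨t, ht, rfl⟩
    have hi := inv_fix ψ (fun a b => mul_comm a b) a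
    exact ⟨restrict (fix ψ a) hi b t,
      inv_char (restrict (fix ψ a) hi) (pCore s (fix ψ a)) b t ht, rfl⟩
  rw [← commutatorElement_eq_one_iff_commute]
  have hmemR : ⁅x, y⁆ ∈ R := by
    rw [commutatorElement_def]
    exact R.mul_mem ((inferInstance : R.Normal).conj_mem y hy x) (R.inv_mem hy)
  refine eq_one_of_fix_minimal hcop hfaith hmemR fun U hU => ?_
  suffices ⁅x, y⁆ ∈ R ⊓ fixer ρ U from this.2
  set K := R ⊓ fixer ρ (U : Set W) with hKdef
  have hKR : ∀ g ∈ R, ∀ z ∈ K, g * z * g⁻¹ ∈ K := by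
    intro g hg z hz
    refine ⟨(inferInstance : R.Normal).conj_mem z hz.1 g, fun u hu => ?_⟩
    rw [mul_apply', mul_apply', hz.2 _ (hU.2.1 _ (R.inv_mem hg) u hu), ← mul_apply',
      mul_inv_cancel, one_apply']
  by_cases hKa : ∀ g ∈ R, g⁻¹ * ψ a g ∈ K
  · -- the coset of a twist subgroup has a fixed point
    set H := Subgroup.closure (Set.range fun g : R => (g : Q)⁻¹ * ψ a g) with hH
    have hHK : H ≤ K := (Subgroup.closure_le K).mpr (by rintro _ ⟨g, rfl⟩; exact hKa g g.2)
    have hHx : ∀ h ∈ H, x * h * x⁻¹ ∈ H := by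
      intro h hh
      have hle : H ≤ H.comap (MulAut.conj x).toMonoidHom := (Subgroup.closure_le _).mpr (by
        rintro _ ⟨g, rfl⟩
        refine Subgroup.subset_closure
          ⟨⟨x * g * x⁻¹, (inferInstance : R.Normal).conj_mem g g.2 x⟩, ?_⟩
        show (x * (g : Q) * x⁻¹)⁻¹ * ψ a (x * g * x⁻¹) = x * ((g : Q)⁻¹ * ψ a g) * x⁻¹
        rw [map_mul, map_mul, map_inv, hxa]
        group)
      exact hle hh
    have hHi : ∀ b : Subgroup.zpowers a, ∀ h ∈ H, ψ (b : A) h ∈ H := by
      intro b h hh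
      have hle : H ≤ H.comap (ψ (b : A)).toMonoidHom := (Subgroup.closure_le _).mpr (by
        rintro _ ⟨g, rfl⟩
        refine Subgroup.subset_closure ⟨⟨ψ (b : A) g, hRi _ _ g.2⟩, ?_⟩
        show (ψ (b : A) g)⁻¹ * ψ a (ψ (b : A) g) = ψ (b : A) ((g : Q)⁻¹ * ψ a g)
        rw [map_mul, map_inv, ← MulAut.mul_apply, ← map_mul, mul_comm a, map_mul, MulAut.mul_apply])
      exact hle hh
    have hyb : ∀ b : Subgroup.zpowers a, y⁻¹ * ψ (b : A) y ∈ H := by
      intro b
      let T : Subgroup A :=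
        { carrier := {b | ∀ g ∈ R, g⁻¹ * ψ b g ∈ H}
          one_mem' := fun g _ => by rw [map_one, MulAut.one_apply, inv_mul_cancel]; exact H.one_mem
          mul_mem' := fun {c d} hc hd g hg => by
            have h1 := mul_mem (hd g hg) (hc _ (hRi d g hg))
            rwa [mul_assoc, mul_inv_cancel_left, ← MulAut.mul_apply, ← map_mul] at h1
          inv_mem' := fun {c} hc g hg => by
            have h1 := inv_mem (hc _ (hRi c⁻¹ g hg))
            rwa [← MulAut.mul_apply, ← map_mul, mul_inv_cancel, map_one, MulAut.one_apply,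
              mul_inv_rev, inv_inv] at h1 }
      exact ((Subgroup.zpowers_le (H := T)).mpr
        (fun g hg => Subgroup.subset_closure ⟨⟨g, hg⟩, rfl⟩)) b.2 y hy
    obtain ⟨z, hz, hzfix⟩ := exists_fixed_in_coset
      (φ := ψ.comp (Subgroup.zpowers a).subtype) (hAp.to_subgroup _) hHi (hnd H) hyb
    have hza : ψ a z = z := hzfix ⟨a, Subgroup.mem_zpowers a⟩
    have hzR : z ∈ R := by
      have h1 := R.mul_mem hy (hHK hz).1
      rwa [mul_inv_cancel_left] at h1
    obtain ⟨j, hj⟩ := hR ⟨z, hzR⟩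
    have hxz : Commute x z :=
      congrArg Subtype.val (commute_of_nilpotent (Q := fix ψ a) hsq (x := ⟨x, hxa⟩) (y := ⟨z, hza⟩)
        (Subtype.ext hxs) (Subtype.ext (show z ^ q ^ j = 1 from congrArg Subtype.val hj))).eq
    set h := (y⁻¹ * z)⁻¹ with hhdef
    have hh : h ∈ H := H.inv_mem hz
    have hyzh : y = z * h := by rw [hhdef]; group
    have he : ⁅x, y⁆ = z * (x * h * x⁻¹ * h⁻¹) * z⁻¹ := by
      rw [commutatorElement_def, hyzh, ← mul_assoc x z h, hxz.eq]
      group
    rw [he]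
    exact hKR z hzR _ (hHK (mul_mem (hHx h hh) (inv_mem hh)))
  · -- `P` normalises the kernel
    have hTwpow : ∀ (L : Subgroup Q) (d b : A), b ∈ Subgroup.zpowers d →
        (∀ g ∈ R, g⁻¹ * ψ d g ∈ L) → ∀ g ∈ R, g⁻¹ * ψ b g ∈ L := by
      intro L d b hb hd
      obtain ⟨m, rfl⟩ := (Submonoid.mem_powers_iff _ _).mp (mem_powers_iff_mem_zpowers.mpr hb)
      clear hb
      induction m with
      | zero => intro g _; rw [pow_zero, map_one, MulAut.one_apply, inv_mul_cancel]; exact L.one_mem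
      | succ m ihm =>
        intro g hg
        have h1 := L.mul_mem (hd g hg) (ihm _ (hRi d g hg))
        rwa [mul_assoc, mul_inv_cancel_left, ← MulAut.mul_apply, ← map_mul, ← pow_succ] at h1
    have hsmul : ∀ (σ : MulAut Q) (L : Subgroup Q), (∀ z ∈ L, σ z ∈ L) → σ • L = L := by
      intro σ L hL
      refine Subgroup.eq_of_le_of_card_ge ?_
        (le_of_eq (Nat.card_congr (Subgroup.equivSMul σ L).toEquiv))
      rintro _ ⟨z, hz, rfl⟩
      exact hL z hz
    have hTwinv : ∀ (L : Subgroup Q) (d : A), L ≤ R → (∀ g ∈ R, g⁻¹ * ψ d g ∈ L) →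
        ψ d • L = L := by
      intro L d hL hd
      refine hsmul _ L fun z hz => ?_
      have h1 := L.mul_mem hz (hd z (hL hz))
      rwa [mul_inv_cancel_left] at h1
    have hσ : ∀ (b : A) (t : Q) (L : Subgroup Q),
        ψ b • (MulAut.conj t • L) = MulAut.conj (ψ b t) • (ψ b • L) := by
      intro b t L
      rw [smul_smul, smul_smul]
      congr 1
      refine MulEquiv.ext fun z => ?_
      simp [MulAut.conj_apply]
    obtain ⟨c, hc1, hcK⟩ := exists_twist_min hA hexpA hc hψ hS hRi hcop hU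
    have hca : c ∉ Subgroup.zpowers a := fun h =>
      hKa (hTwpow K c a (mem_zpowers_symm hexpA h hc1) hcK)
    have hcK' : ψ c • K = K := hTwinv K c inf_le_left hcK
    have hfreeP : ∀ t ∈ P, ψ c t = t → t = 1 := fun t ht htc =>
      eq_one_of_two hA hexpA ha1 hca hψ (hPa t ht) htc
    -- the orbit contains only one point fixed by `c`
    have hstar : ∀ u ∈ P, ψ c • (MulAut.conj u • K) = MulAut.conj u • K →
        MulAut.conj u • K = K := by
      intro u hu huc
      set St : Subgroup Q := (MulAction.stabilizer (MulAut Q) K).comap MulAut.conj ⊓ P with hSt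
      have hb : ∀ b : Subgroup.zpowers c, ψ (b : A) • K = K ∧
          ψ (b : A) • (MulAut.conj u • K) = MulAut.conj u • K := fun b =>
        (Subgroup.zpowers_le (H := ((MulAction.stabilizer (MulAut Q) K) ⊓
          (MulAction.stabilizer (MulAut Q) (MulAut.conj u • K))).comap ψ)).mpr ⟨hcK', huc⟩ b.2
      obtain ⟨z, hz, hzfix⟩ := exists_fixed_in_coset
        (φ := ψ.comp (Subgroup.zpowers c).subtype) (hAp.to_subgroup _) (H := St)
        (fun b t ht => ⟨by
          show MulAut.conj (ψ (b : A) t) • K = K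
          have ht1 : MulAut.conj t • K = K := ht.1
          conv_lhs => rw [← (hb b).1]
          rw [← hσ, ht1, (hb b).1], hPi _ _ ht.2⟩) (hnd St) (g := u) (fun b => ⟨by
          show MulAut.conj (u⁻¹ * ψ (b : A) u) • K = K
          have h1 := hσ (b : A) u K
          rw [(hb b).1, (hb b).2] at h1
          rw [map_mul, mul_smul, ← h1, ← mul_smul, ← map_mul, inv_mul_cancel, map_one, one_smul],
          P.mul_mem (P.inv_mem hu) (hPi _ _ hu)⟩)
      have hzP : z ∈ P := by
        have h1 := P.mul_mem hu hz.2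
        rwa [mul_inv_cancel_left] at h1
      have hz1 : z = 1 := hfreeP z hzP (hzfix ⟨c, Subgroup.mem_zpowers c⟩)
      rw [hz1, mul_one] at hz
      exact ((St.inv_mem_iff.mp hz).1 : MulAut.conj u • K = K)
    have hnorm : ∀ u ∈ P, MulAut.conj u • K = K := by
      intro u hu
      obtain ⟨d, hd1, hdK⟩ := exists_twist_min hA hexpA hc hψ hS hRi hcop (hU.map u)
      set K' := MulAut.conj u • K with hK'
      have hK'eq : R ⊓ fixer ρ (U.map (ρ u : W →+ W) : Set W) = K' := by
        ext z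
        rw [hK', Basics.mem_conj_smul]
        constructor
        · intro hz
          refine ⟨by simpa using (inferInstance : R.Normal).conj_mem z hz.1 u⁻¹, fun v hv => ?_⟩
          rw [mul_apply', mul_apply', show ρ z (ρ u v) = ρ u v from hz.2 _ ⟨v, hv, rfl⟩,
            ← mul_apply', inv_mul_cancel, one_apply']
        · intro hz
          refine ⟨by simpa [mul_assoc] using (inferInstance : R.Normal).conj_mem _ hz.1 u, ?_⟩
          rintro _ ⟨v, hv, rfl⟩
          have h1 : ρ (u⁻¹ * z * u) v = v := hz.2 v hv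
          show ρ z (ρ u v) = ρ u v
          conv_rhs => rw [← h1]
          rw [← mul_apply', ← mul_apply']
          congr 2
          group
      rw [hK'eq] at hdK
      have hK'R : K' ≤ R := hK'eq ▸ inf_le_left
      have hdK' : ψ d • K' = K' := hTwinv K' d hK'R hdK
      refine hstar u hu ?_
      by_cases hdc : d ∈ Subgroup.zpowers c
      · exact hTwinv K' c hK'R (hTwpow K' d c (mem_zpowers_symm hexpA hdc hd1) hdK)
      let M : Subgroup A :=
        { carrier := {b | ∃ t ∈ P, ψ b • K = MulAut.conj t • K}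
          one_mem' := ⟨1, P.one_mem, by rw [map_one, map_one]⟩
          mul_mem' := by
            rintro b b' ⟨t, ht, htK⟩ ⟨t', ht', htK'⟩
            refine ⟨ψ b t' * t, P.mul_mem (hPi _ _ ht') ht, ?_⟩
            rw [map_mul, mul_smul, htK', hσ, htK, map_mul, mul_smul]
          inv_mem' := by
            rintro b ⟨t, ht, htK⟩
            refine ⟨(ψ b⁻¹ t)⁻¹, P.inv_mem (hPi _ _ ht), ?_⟩
            have h1 := congrArg (fun L => ψ b⁻¹ • L) htK
            simp only [hσ] at h1
            rw [← mul_smul, ← map_mul, inv_mul_cancel, map_one, one_smul] at h1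
            conv_rhs => rw [h1]
            rw [← mul_smul, ← map_mul, inv_mul_cancel, map_one, one_smul] }
      have hdM : d ∈ M := by
        refine ⟨(ψ d u)⁻¹ * u, P.mul_mem (P.inv_mem (hPi _ _ hu)) hu, ?_⟩
        have h1 := hσ d u K
        rw [← hK', hdK'] at h1
        rw [map_mul, mul_smul, ← hK', h1, ← mul_smul, ← map_mul, inv_mul_cancel, map_one, one_smul]
      have hcM : c ∈ M := ⟨1, P.one_mem, by rw [hcK', map_one, one_smul]⟩
      obtain ⟨t, ht, htK⟩ : a ∈ M := eq_top_of_two hA hexpA hc1 hdc hcM hdM ▸ Subgroup.mem_top a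
      have haK : ψ a • K = K := by
        rw [htK]
        refine hstar t ht ?_
        rw [← htK, ← mul_smul, ← map_mul, mul_comm, map_mul, mul_smul, hcK']
      have haK' : ψ a • K' = K' := by rw [hK', hσ, hPa u hu, haK]
      have hda : d ∉ Subgroup.zpowers a := fun h =>
        hKa (by
          have h2 := hTwpow K' d a (mem_zpowers_symm hexpA h hd1) hdK
          intro g hg
          have h3 := h2 (u * g * u⁻¹) ((inferInstance : R.Normal).conj_mem g hg u)
          rw [hK', Basics.mem_conj_smul, map_mul, map_mul, map_inv, hPa u hu] at h3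
          simpa [mul_assoc] using h3)
      have h4 : (MulAction.stabilizer (MulAut Q) K').comap ψ = ⊤ :=
        eq_top_of_two hA hexpA ha1 hda haK' hdK'
      exact (h4 ▸ Subgroup.mem_top c : c ∈ (MulAction.stabilizer (MulAut Q) K').comap ψ)
    -- `x` is a twist of an element of `P`
    obtain ⟨⟨w, hw⟩, hwx⟩ : ∃ w : P, (⟨(w : Q)⁻¹ * ψ c w,
        P.mul_mem (P.inv_mem w.2) (hPi c _ w.2)⟩ : P) = ⟨x, hxP⟩ := by
      refine (Finite.injective_iff_surjective.mp fun v v' hvv => ?_) _
      have h' : (v : Q)⁻¹ * ψ c v = (v' : Q)⁻¹ * ψ c v' := congrArg Subtype.val hvv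
      have h1 : ψ c ((v' : Q) * (v : Q)⁻¹) = (v' : Q) * (v : Q)⁻¹ := by
        rw [map_mul, map_inv, mul_inv_eq_iff_eq_mul, mul_assoc, h', mul_inv_cancel_left]
      exact Subtype.ext (mul_inv_eq_one.mp (hfreeP _ (P.mul_mem v'.2 (P.inv_mem v.2)) h1)).symm
    have hwx' : w⁻¹ * ψ c w = x := congrArg Subtype.val hwx
    have hconjK : ∀ t ∈ P, ∀ z ∈ K, t * z * t⁻¹ ∈ K := fun t ht z hz =>
      hnorm t ht ▸ Basics.conj_mem_conj_smul hz
    have hk1 := hcK y hy
    have hk2 := hcK (w * y * w⁻¹) ((inferInstance : R.Normal).conj_mem y hy w)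
    have hk3 : w⁻¹ * ((w * y * w⁻¹)⁻¹ * ψ c (w * y * w⁻¹)) * w ∈ K := by
      simpa using hconjK w⁻¹ (P.inv_mem hw) _ hk2
    have hk4 : w⁻¹ * (ψ c w * (y⁻¹ * ψ c y)⁻¹ * (ψ c w)⁻¹) * w ∈ K := by
      simpa using hconjK w⁻¹ (P.inv_mem hw) _ (hconjK _ (hPi c _ hw) _ (K.inv_mem hk1))
    have he : ⁅x, y⁆ = y * ((w⁻¹ * ((w * y * w⁻¹)⁻¹ * ψ c (w * y * w⁻¹)) * w) *
        (w⁻¹ * (ψ c w * (y⁻¹ * ψ c y)⁻¹ * (ψ c w)⁻¹) * w)) * y⁻¹ := by
      rw [commutatorElement_def, ← hwx', map_mul, map_mul, map_inv]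
      group
    rw [he]
    exact hKR y hy _ (K.mul_mem hk3 hk4)

theorem fitting_eq_top [Group.IsNilpotent (Q ⧸ fittingSubgroup Q)] (hc : Compat ψ ρ S)
    (hψ : Free ψ) (hS : ∀ x : W, (∀ a, S a x = x) → x = 0) (hfaith : ∀ y, ρ y = 1 → y = 1)
    (hcop : (Nat.card (fittingSubgroup Q)).Coprime (Nat.card W)) : fittingSubgroup Q = ⊤ := by
  refine eq_top_of_fix_le (p := p) hA hexpA ψ hψ _ fun a ha1 => ?_
  have hi := inv_fix ψ (fun a b => mul_comm a b) a
  obtain ⟨b, hb⟩ := exists_not_mem_zpowers hA hexpA a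
  have hb1 : b ≠ 1 := fun h => hb (h ▸ one_mem _)
  haveI : Group.IsNilpotent (fix ψ a) :=
    isNilpotent_of_prime (A := Subgroup.zpowers b) (p := p)
      (by rw [Nat.card_zpowers, orderOf_eq_prime (hexpA b) hb1])
      ((restrict (fix ψ a) hi).comp (Subgroup.zpowers b).subtype) fun z hz =>
        Subtype.ext (eq_one_of_two hA hexpA ha1 hb hψ z.2
          (congrArg Subtype.val (hz ⟨b, Subgroup.mem_zpowers b⟩)))
  intro x hx
  refine mem_of_prime_power _ fun z hz s k hs hzs => ?_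
  haveI := Fact.mk hs
  have hza : ψ a z = z := (Subgroup.zpowers_le.mpr hx : Subgroup.zpowers x ≤ fix ψ a) hz
  refine mem_fitting_of_commute hzs fun q hq hqs y hy => ?_
  haveI := Fact.mk hq
  exact commute_core hA hexpA hc hψ hS hfaith (inv_char ψ (pCore q Q)) (Basics.pCore_isPGroup q)
    (hcop.coprime_dvd_left (Subgroup.card_dvd_of_le (Basics.pCore_le_fittingSubgroup q))) ha1
    (Ne.symm hqs) hza hzs hy

omit hA hexpA

theorem isNilpotent_quotient_fitting {G : Type u} [Group G] [Finite G] [Group.IsSolvable G]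
    (hA : Nat.card A = p ^ 2) (hexpA : ∀ a : A, a ^ p = 1) (φ : A →* MulAut G) (hf : Free φ) :
    Group.IsNilpotent (G ⧸ fittingSubgroup G) := by
  have hAp : IsPGroup p A := IsPGroup.of_card hA
  induction hn : Nat.card G using Nat.strong_induction_on generalizing G with
  | _ n ih =>
    subst hn
    rcases subsingleton_or_nontrivial G with hG | hG
    · infer_instance
    obtain ⟨V, r, hVn, hi, hne, hr, hab, hexp, hmin⟩ := exists_minimal φ
    haveI := Fact.mk hr
    set C := Subgroup.centralizer (V : Set G) with hC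
    have hCne : C ≠ ⊥ := fun h => hne (eq_bot_iff.mpr (h ▸ fun x hx =>
      Subgroup.mem_centralizer_iff.mpr fun y hy => congrArg Subtype.val
        (mul_comm' (⟨y, hy⟩ : V) ⟨x, hx⟩)))
    haveI := ih _ (Basics.card_quotient_lt hCne) (quot C hi.centralizer)
      (hf.quot hAp C hi.centralizer) rfl
    have hQ : fittingSubgroup (G ⧸ C) = ⊤ := fitting_eq_top hA hexpA (compat_quotRep V hi)
      (hf.quot hAp C hi.centralizer) (actRep_free V hf hi) (fun y h => quotRep_eq_one V h)
      (coprime_card_additive V hexp (not_dvd_card_fitting V hne hi hmin hexp))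
    haveI hQn : Group.IsNilpotent (G ⧸ C) := Group.isNilpotent_top.mp (hQ ▸ inferInstance)
    haveI := ih _ (Basics.card_quotient_lt hne) (quot V hi) (hf.quot hAp V hi) rfl
    -- combine the two quotients
    let f : G →* (G ⧸ C) × ((G ⧸ V) ⧸ fittingSubgroup (G ⧸ V)) :=
      (QuotientGroup.mk' C).prod ((QuotientGroup.mk' _).comp (QuotientGroup.mk' V))
    have hker : f.ker ≤ fittingSubgroup G := by
      intro g hg
      rw [MonoidHom.mem_ker] at hg
      exact mem_fitting_of_quotient V ((QuotientGroup.eq_one_iff _).mp (congrArg Prod.snd hg))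
        ((QuotientGroup.eq_one_iff _).mp (congrArg Prod.fst hg))
    haveI : Group.IsNilpotent (G ⧸ f.ker) :=
      Group.nilpotent_of_mulEquiv (QuotientGroup.quotientKerEquivRange f).symm
    exact Group.nilpotent_of_surjective
      (QuotientGroup.map f.ker (fittingSubgroup G) (MonoidHom.id G) hker) fun z => by
        obtain ⟨g, rfl⟩ := QuotientGroup.mk_surjective z
        exact ⟨(g : G ⧸ f.ker), rfl⟩

end Ward

end Cfsg.Agent.Fpf
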